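import Groth.Agent.H27Weil.Basic
import Mathlib

/-!
# Points, generic points and residue degrees for Weil cohomology
-/

set_option autoImplicit false
universe u v w

noncomputable section

open CategoryTheory AlgebraicGeometry WeilCoh TopologicalSpace

namespace Groth.Agent.H27Weil

/-- Projective space over a ring is proper. -/
instance isProper_toSpec (n : ℕ) (R : Type u) [CommRing R] : IsProper (CohB1.ProjSpace.toSpec n R) := by
  have hbij : Function.Bijective (algebraMap R (CohB1.polyGrading n R 0)) := by
    refine ⟨fun a b h => ?_, fun ⟨x, hx⟩ => ?_⟩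
    · exact MvPolynomial.C_injective (Fin (n + 1)) R (congrArg Subtype.val h)
    · have hx' : x.totalDegree = 0 := by
        rcases eq_or_ne x 0 with h0 | h0
        · simp [h0]
        · exact (MvPolynomial.mem_homogeneousSubmodule 0 x).mp hx |>.totalDegree h0
      exact ⟨x.coeff 0, Subtype.ext (MvPolynomial.totalDegree_eq_zero_iff_eq_C.mp hx').symm⟩
  haveI : Algebra.FiniteType R (MvPolynomial (Fin (n + 1)) R) := inferInstance
  haveI : IsScalarTower R (CohB1.polyGrading n R 0) (MvPolynomial (Fin (n + 1)) R) :=
    ⟨fun r x y => smul_assoc r (x : MvPolynomial (Fin (n + 1)) R) y⟩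
  haveI : Algebra.FiniteType (CohB1.polyGrading n R 0) (MvPolynomial (Fin (n + 1)) R) :=
    Algebra.FiniteType.of_restrictScalars_finiteType R _ _
  haveI : IsIso (CommRingCat.ofHom (algebraMap R (CohB1.polyGrading n R 0))) :=
    (ConcreteCategory.isIso_iff_bijective _).mpr hbij
  have h1 : IsProper (Proj.toSpecZero (CohB1.polyGrading n R)) := inferInstance
  have h2 : IsProper (Spec.map (CommRingCat.ofHom (algebraMap R (CohB1.polyGrading n R 0)))) :=
    inferInstance
  unfold CohB1.ProjSpace.toSpec
  exact MorphismProperty.comp_mem _ _ _ h1 h2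

instance isProper_toBase (n : ℕ) (S : Scheme.{u}) : IsProper (CohB1.ProjSpaceOver.toBase n S) := by
  unfold CohB1.ProjSpaceOver.toBase
  exact MorphismProperty.of_isPullback (IsPullback.of_hasPullback _ _) (isProper_toSpec n (ULift.{u} ℤ))

variable {k : Type u} [Field k]

/-- A morphism of varieties from a morphism of schemes over `k`. -/
def homOfSm {P : ObjectProperty (Over (Spec (CommRingCat.of k)))} {X Y : P.FullSubcategory}
    (f : X.obj.left ⟶ Y.obj.left) (h : f ≫ Y.obj.hom = X.obj.hom) : X ⟶ Y :=
  ObjectProperty.homMk (Over.homMk f h)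

theorem sm_comp {P : ObjectProperty (Over (Spec (CommRingCat.of k)))} {X Y Z : P.FullSubcategory}
    (f : X ⟶ Y) (g : Y ⟶ Z) : sm (f ≫ g) = sm f ≫ sm g := rfl

theorem hom_ext_sm {P : ObjectProperty (Over (Spec (CommRingCat.of k)))} {X Y : P.FullSubcategory}
    {f g : X ⟶ Y} (h : sm f = sm g) : f = g := by
  apply ObjectProperty.hom_ext
  exact Over.OverMorphism.ext h

theorem sm_hom {P : ObjectProperty (Over (Spec (CommRingCat.of k)))} {X Y : P.FullSubcategory}
    (f : X ⟶ Y) : sm f ≫ Y.obj.hom = X.obj.hom := Over.w f.hom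

instance irreducible (X : Var k) : IrreducibleSpace ↥X.obj.left := X.property.2.2

instance smooth_hom (X : Var k) : Smooth X.obj.hom := X.property.1

instance locallyOfFiniteType_hom (X : Var k) : LocallyOfFiniteType X.obj.hom := inferInstance

theorem isProper_hom (X : Var k) : IsProper X.obj.hom := by
  obtain ⟨n, i, hi, h⟩ := X.property.2.1
  haveI : IsProper (CohB1.ProjSpaceOver.toBase n (Spec (CommRingCat.of k))) := inferInstance
  rw [← h]
  infer_instance

instance quasiCompact_hom (X : Var k) : QuasiCompact X.obj.hom := by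
  haveI := isProper_hom X; infer_instance

instance separated_hom (X : Var k) : IsSeparated X.obj.hom := by
  haveI := isProper_hom X; infer_instance

theorem exists_closedPoint (X : Var k) : ∃ x : X.obj.left, IsClosed ({x} : Set X.obj.left) := by
  haveI : CompactSpace ↥X.obj.left := (quasiCompact_iff_compactSpace X.obj.hom).mp inferInstance
  obtain ⟨x, -, hx⟩ := IsClosed.exists_closed_singleton (X := ↥X.obj.left) isClosed_univ Set.univ_nonempty
  exact ⟨x, hx⟩

theorem natDim_eq_zero_of_subsingleton (T : Type u) [TopologicalSpace T] [Subsingleton T] :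
    natDim T = 0 := by
  have h := topologicalKrullDim_zero_of_discreteTopology T
  unfold natDim
  generalize topologicalKrullDim T = a at h
  induction a with
  | bot => rfl
  | coe a =>
    have : a = 0 := le_antisymm (WithBot.coe_le_coe.mp h) bot_le
    subst this; rfl

theorem pdim_eq_zero_of_isClosed {X : Scheme.{u}} {x : X} (hx : IsClosed ({x} : Set X)) :
    pdim X x = 0 := by
  haveI : Subsingleton ↥(closure ({x} : Set X)) := by
    rw [hx.closure_eq]; infer_instance
  exact natDim_eq_zero_of_subsingleton _

theorem natDim_congr {S T : Type u} [TopologicalSpace S] [TopologicalSpace T] (e : S ≃ₜ T) :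
    natDim S = natDim T := by
  unfold natDim; rw [IsHomeomorph.topologicalKrullDim_eq e e.isHomeomorph]

theorem pdim_of_closure_eq_univ {X : Scheme.{u}} {η : X} (h : closure ({η} : Set X) = Set.univ) :
    pdim X η = WeilCoh.dim X :=
  natDim_congr ((Homeomorph.setCongr h).trans (Homeomorph.Set.univ _))

theorem pdim_genericPoint (X : Scheme.{u}) [IrreducibleSpace ↥X] :
    pdim X (genericPoint ↥X) = WeilCoh.dim X :=
  pdim_of_closure_eq_univ (by simpa using (genericPoint_spec ↥X))

theorem codim_genericPoint (X : Scheme.{u}) [IrreducibleSpace ↥X] :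
    codim X (genericPoint ↥X) = 0 := by
  rw [codim, pdim_genericPoint, Nat.sub_self]

theorem pdim_map_of_isClosedImmersion {X Y : Scheme.{u}} (f : X ⟶ Y) [IsClosedImmersion f] (x : X) :
    pdim Y (f x) = pdim X x := by
  have hf := f.isClosedEmbedding
  refine natDim_congr ?_
  have h : closure ({f x} : Set Y) = f '' closure ({x} : Set X) := by
    rw [← hf.closure_image_eq, Set.image_singleton]
  exact (Homeomorph.setCongr h).trans (hf.isEmbedding.homeomorphImage _).symm

theorem residueDegree_eq_one_of_section {X Y : Scheme.{u}} (j : X ⟶ Y) (p : Y ⟶ X) (h : j ≫ p = 𝟙 X)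
    (x : X) : j.residueDegree x = 1 := by
  have hsurj : Function.Surjective (j.residueFieldMap x).hom := by
    have h1 : Function.Surjective ((j ≫ p).residueFieldMap x).hom := by
      generalize hg : j ≫ p = g
      rw [h] at hg
      subst hg
      rw [Scheme.residueFieldMap_id]
      exact fun a => ⟨a, rfl⟩
    rw [Scheme.residueFieldMap_comp] at h1
    intro a
    obtain ⟨b, hb⟩ := h1 a
    exact ⟨_, hb⟩
  unfold Scheme.Hom.residueDegree
  letI := (j.residueFieldMap x).hom.toAlgebra
  exact (LinearEquiv.ofBijective (Algebra.linearMap (Y.residueField (j x)) (X.residueField x))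
    ⟨(j.residueFieldMap x).hom.injective, hsurj⟩).finrank_eq.symm.trans (Module.finrank_self _)

theorem isField_stalk_spec (η : Spec (CommRingCat.of k)) :
    IsField ((Spec (CommRingCat.of k)).presheaf.stalk η) := by
  letI : η.asIdeal.IsPrime := η.isPrime
  have e := (Spec.stalkIso (CommRingCat.of k) η).commRingCatIsoToRingEquiv
  have hsurj : Function.Surjective (algebraMap k (Localization.AtPrime η.asIdeal)) := by
    intro z
    obtain ⟨a, s, rfl⟩ := IsLocalization.exists_mk'_eq η.asIdeal.primeCompl z
    refine ⟨a * (s : k)⁻¹, ?_⟩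
    rw [eq_comm, IsLocalization.mk'_eq_iff_eq_mul, ← map_mul]
    congr 1
    have hs : (s : k) ≠ 0 := fun h => s.2 (by show (s : k) ∈ η.asIdeal; rw [h]; exact zero_mem _)
    rw [mul_assoc, inv_mul_cancel₀ hs, mul_one]
  have hbij : Function.Bijective (algebraMap k (Localization.AtPrime η.asIdeal)) :=
    ⟨(algebraMap k _).injective, hsurj⟩
  exact MulEquiv.isField (Field.toIsField k) (e.trans (RingEquiv.ofBijective _ hbij).symm).toMulEquiv

variable [IsAlgClosed k]

/-- A closed point is the image of an object of dimension zero. -/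
theorem exists_point (X : Var k) {x : X.obj.left} (hx : IsClosed ({x} : Set X.obj.left)) :
    ∃ (Q : Var k) (c : Q ⟶ X) (η : Q.obj.left), WeilCoh.dim Q.obj.left = 0 ∧
      Subsingleton ↥Q.obj.left ∧ sm c η = x ∧ (sm c).residueDegree η = 1 ∧
      IsField (Q.obj.left.presheaf.stalk η) := by
  let c₀ := pointOfClosedPoint X.obj.hom x hx
  haveI : IsClosedImmersion c₀ :=
    isClosedImmersion_of_comp_eq_id _ _ (pointOfClosedPoint_comp X.obj.hom x hx)
  have hP : IsVar k (Over.mk (𝟙 (Spec (CommRingCat.of k)))) := by
    refine ⟨by dsimp; infer_instance, ?_, by dsimp; infer_instance⟩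
    obtain ⟨n, i, hi, h⟩ := X.property.2.1
    refine ⟨n, c₀ ≫ i, inferInstance, ?_⟩
    rw [Category.assoc, h]
    exact pointOfClosedPoint_comp X.obj.hom x hx
  let Q : Var k := ⟨Over.mk (𝟙 (Spec (CommRingCat.of k))), hP⟩
  haveI hsub : Subsingleton ↥Q.obj.left := inferInstanceAs (Subsingleton (PrimeSpectrum k))
  refine ⟨Q, homOfSm c₀ (pointOfClosedPoint_comp X.obj.hom x hx), IsLocalRing.closedPoint k,
    natDim_eq_zero_of_subsingleton _, hsub, pointOfClosedPoint_apply _ _ _ _, ?_, isField_stalk_spec _⟩
  exact residueDegree_eq_one_of_section c₀ X.obj.hom (pointOfClosedPoint_comp X.obj.hom x hx) _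

variable {K : Type v} [Field K] [CharZero K] (T : Theory.{u, v} k K)

theorem tr_cl_eq_one (X : Var k) {x : X.obj.left} (hx : IsClosed ({x} : Set X.obj.left)) :
    T.tr X (T.cl X x) = 1 := by
  obtain ⟨Q, c, η, hd, hsub, hc, hdeg, -⟩ := exists_point X hx
  have hp : pdim Q.obj.left η = 0 := pdim_eq_zero_of_isClosed (Set.subsingleton_singleton.isClosed)
  have h := T.cl_push c η 1 (by rw [hp]; exact SetLike.one_mem_graded (T.gr X))
  rw [map_one, mul_one, (T.point Q hd).1 η, (T.point Q hd).2, hdeg, hc, mul_one, Nat.cast_one,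
    one_mul] at h
  exact h.symm

theorem cl_genericPoint (X : Var k) : T.cl X (genericPoint ↥X.obj.left) = 1 := by
  obtain ⟨x, hx⟩ := exists_closedPoint X
  obtain ⟨Q, c, η, hd, hsub, hc, -, hfield⟩ := exists_point X hx
  set ξ := genericPoint ↥X.obj.left with hξ
  have hmem : T.cl X ξ ∈ T.gr X 0 := by
    simpa [hξ, codim_genericPoint] using T.cl_mem X ξ
  obtain ⟨a, ha⟩ := mem_gr_zero T X hmem
  have huniv : closure ({ξ} : Set X.obj.left) = Set.univ := genericPoint_spec ↥X.obj.left
  have hmult : ∀ (w : Q.obj.left) (hw : sm c w ∈ closure ({ξ} : Set X.obj.left)),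
      preimMult (sm c) ξ w hw = 1 := by
    intro w hw
    obtain rfl : w = η := Subsingleton.elim _ _
    unfold preimMult
    haveI : IsSimpleModule (Q.obj.left.presheaf.stalk w) (Q.obj.left.presheaf.stalk w) := by
      letI := hfield.toField
      infer_instance
    have hbot : Ideal.map ((sm c).stalkMap w).hom
        (RingHom.ker (Cyc.specMap (sm c w) ξ (specializes_iff_mem_closure.mpr hw))) = ⊥ := by
      letI := hfield.toField
      rcases Ideal.eq_bot_or_top (Ideal.map ((sm c).stalkMap w).hom
        (RingHom.ker (Cyc.specMap (sm c w) ξ (specializes_iff_mem_closure.mpr hw)))) with h | h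
      · exact h
      · exfalso
        have hle : RingHom.ker (Cyc.specMap (sm c w) ξ (specializes_iff_mem_closure.mpr hw)) ≤
            IsLocalRing.maximalIdeal _ :=
          IsLocalRing.le_maximalIdeal (RingHom.ker_ne_top _)
        have := Ideal.map_mono (f := ((sm c).stalkMap w).hom) hle
        rw [h, top_le_iff] at this
        exact (IsLocalRing.map_maximalIdeal_le ((sm c).stalkMap w).hom).trans_lt
          (IsLocalRing.maximalIdeal.isMaximal _).ne_top.lt_top |>.ne this
    rw [hbot, (Submodule.quotEquivOfEqBot (⊥ : Ideal (Q.obj.left.presheaf.stalk w)) rfl).length_eq,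
      Module.length_eq_one]
    rfl
  have hcomp : ∀ w : Q.obj.left, IsCompPt ((sm c) ⁻¹' closure ({ξ} : Set X.obj.left)) w :=
    fun w => ⟨by simp [huniv], fun w' _ _ => Subsingleton.elim _ _⟩
  have h := T.cl_pull c ξ (fun w _ => by
      rw [pdim_eq_zero_of_isClosed (Set.subsingleton_singleton.isClosed), hd, hξ, pdim_genericPoint]
      simp)
    (Or.inr fun w hw => hmult w hw.1)
  haveI : Unique {w : Q.obj.left // IsCompPt ((sm c) ⁻¹' closure ({ξ} : Set X.obj.left)) w} :=
    { default := ⟨η, hcomp η⟩, uniq := fun _ => Subtype.ext (Subsingleton.elim _ _) }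
  rw [finsum_unique, hmult _ (hcomp _).1, Nat.cast_one, one_smul, (T.point Q hd).1, ha, map_smul,
    map_one] at h
  have := smul_one_injective T Q (a₁ := a) (a₂ := 1) (by simpa using h)
  rw [ha, this, one_smul]

end Groth.Agent.H27Weil
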