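import Mathlib

/-!
# The degree of a field over its `q`-th powers
-/

set_option autoImplicit false
universe u v

noncomputable section

open MvPolynomial

namespace Groth.Agent.H27Weil

theorem finrank_toAlgebra_eq {A L : Type*} [Field A] [Field L] (φ : A →+* L) :
    @Module.finrank A L _ _ φ.toAlgebra.toModule = Module.finrank φ.fieldRange L := by
  letI := φ.toAlgebra
  refine Algebra.finrank_eq_of_equiv_equiv φ.rangeRestrictFieldEquiv (RingEquiv.refl L) ?_
  ext a; rfl

variable {k L : Type u} [Field k] [Field L] [Algebra k L] {q : ℕ} (φ : L →+* L) (hφ : ∀ a, φ a = a ^ q)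

include hφ in
theorem exists_pow_hom : ∃ σ : k →+* k, (∀ c, σ c = c ^ q) ∧ φ.comp (algebraMap k L) = (algebraMap k L).comp σ := by
  refine ⟨⟨⟨⟨(· ^ q), one_pow q⟩, fun a b => mul_pow a b q⟩, ?_, fun a b => ?_⟩, fun c => rfl, ?_⟩
  · apply (algebraMap k L).injective
    show algebraMap k L (0 ^ q) = _
    rw [map_pow, map_zero, ← hφ, map_zero]
  · apply (algebraMap k L).injective
    show algebraMap k L ((a + b) ^ q) = algebraMap k L (a ^ q + b ^ q)
    rw [map_pow, map_add, ← hφ, map_add, hφ, hφ, map_add (algebraMap k L), map_pow, map_pow]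
  · ext c
    show φ (algebraMap k L c) = algebraMap k L (c ^ q)
    rw [hφ, map_pow]

/-- The exponents below `q`. -/
def boxExp {n : ℕ} (e : Fin n → Fin q) : Fin n →₀ ℕ := Finsupp.equivFunOnFinite.symm fun i => (e i : ℕ)

include hφ in
theorem linearIndependent_monomials {n : ℕ} (hq : q ≠ 0) {x : Fin n → L} (hx : AlgebraicIndependent k x) :
    LinearIndependent ((IntermediateField.adjoin k (Set.range x)).toSubfield.map φ)
      (fun e : Fin n → Fin q => aeval x (monomial (boxExp e) (1 : k))) := by
  classical
  obtain ⟨σ, hσ, hσc⟩ := exists_pow_hom (k := k) φ hφ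
  have hkey : ∀ P : MvPolynomial (Fin n) k, φ (aeval x P) = aeval x (expand q (MvPolynomial.map σ P)) := by
    intro P
    induction P using MvPolynomial.induction_on with
    | C c => simp only [map_C, aeval_C, expand_C]; exact RingHom.congr_fun hσc c
    | add a b ha hb => simp only [map_add, ha, hb]
    | mul_X a i ha => simp only [map_mul, map_X, aeval_X, expand_X, map_pow, ha, hφ (x i)]
  rw [Fintype.linearIndependent_iff]
  intro g hg
  have hmem : ∀ e, ∃ r s : MvPolynomial (Fin n) k, s ≠ 0 ∧ (g e : L) = φ (aeval x r / aeval x s) := by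
    intro e
    obtain ⟨y, hy, hye⟩ := (g e).2
    obtain ⟨r, s, rfl⟩ := (IntermediateField.mem_adjoin_range_iff (F := k) x y).mp hy
    by_cases hs : s = 0
    · exact ⟨0, 1, one_ne_zero, by rw [← hye, hs]; simp⟩
    · exact ⟨r, s, hs, hye.symm⟩
  choose r s hs hr using hmem
  have hsne : ∀ e, aeval x (s e) ≠ 0 := fun e h => hs e (hx.eq_zero_of_aeval_eq_zero _ h)
  set D : MvPolynomial (Fin n) k := ∏ e, s e
  set P : (Fin n → Fin q) → MvPolynomial (Fin n) k := fun e => r e * ∏ e' ∈ Finset.univ.erase e, s e'
  have hP : ∀ e, aeval x (r e) / aeval x (s e) * aeval x D = aeval x (P e) := by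
    intro e
    simp only [D, P, ← Finset.mul_prod_erase _ _ (Finset.mem_univ e), map_mul]
    field_simp [hsne e]
  have hsum : aeval x (∑ e, expand q (MvPolynomial.map σ (P e)) * monomial (boxExp e) (1 : k)) = 0 := by
    rw [map_sum]
    simp only [map_mul, ← hkey, ← hP]
    have : ∀ e : Fin n → Fin q, φ (aeval x (r e) / aeval x (s e) * aeval x D) * aeval x (monomial (boxExp e) (1 : k))
        = φ (aeval x D) * (g e • aeval x (monomial (boxExp e) (1 : k))) := by
      intro e
      show _ = φ (aeval x D) * ((g e : L) * _)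
      rw [map_mul, hr e]; ring
    simp only [map_mul] at this ⊢
    rw [Finset.sum_congr rfl fun e _ => this e, ← Finset.mul_sum, hg, mul_zero]
  have h0 := hx.eq_zero_of_aeval_eq_zero _ hsum
  intro e
  have hPe : P e = 0 := by
    ext m
    rw [coeff_zero]
    apply σ.injective
    rw [map_zero]
    have := congrArg (coeff (q • m + boxExp e)) h0
    rw [coeff_sum, coeff_zero, Finset.sum_eq_single e] at this
    · rw [coeff_mul_monomial', if_pos le_add_self, add_tsub_cancel_right, coeff_expand_smul q hq,
        coeff_map, mul_one] at this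
      exact this
    · intro e' _ he'
      rw [coeff_mul_monomial']
      split_ifs with hle
      · obtain ⟨i, hi⟩ := Function.ne_iff.mp he'
        rw [coeff_expand_of_not_dvd (p := q) _ (i := i), zero_mul]
        intro hdvd
        simp only [Finsupp.coe_tsub, Finsupp.coe_add, Pi.sub_apply, Pi.add_apply, Finsupp.smul_apply,
          smul_eq_mul, boxExp, Finsupp.equivFunOnFinite_symm_apply_apply] at hdvd
        have hle' := hle i
        simp only [Finsupp.coe_add, Pi.add_apply, Finsupp.smul_apply, smul_eq_mul, boxExp,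
          Finsupp.equivFunOnFinite_symm_apply_apply] at hle'
        obtain ⟨c, hc⟩ := hdvd
        have h1 := (e i).isLt
        have h2 := (e' i).isLt
        apply hi
        apply Fin.ext
        have : q * c + (e' i : ℕ) = q * m i + (e i : ℕ) := by omega
        have := congrArg (· % q) this
        simpa [Nat.add_mod, Nat.mod_eq_of_lt h1, Nat.mod_eq_of_lt h2] using this
      · rfl
    · exact fun h => absurd (Finset.mem_univ e) h
  have hr0 : r e = 0 := by
    rcases mul_eq_zero.mp hPe with h | h
    · exact h
    · exact absurd h (Finset.prod_ne_zero_iff.mpr fun e' _ => hs e')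
  apply Subtype.ext
  rw [hr e, hr0, map_zero, zero_div, map_zero]
  rfl

include hφ in
theorem relfinrank_adjoin_pow {n : ℕ} (hq : q ≠ 0) (hk : ∀ c : k, ∃ d, d ^ q = c) {x : Fin n → L}
    (hx : AlgebraicIndependent k x) :
    Subfield.relfinrank ((IntermediateField.adjoin k (Set.range x)).toSubfield.map φ)
      (IntermediateField.adjoin k (Set.range x)).toSubfield = q ^ n := by
  classical
  set E := (IntermediateField.adjoin k (Set.range x)).toSubfield with hE
  set F := E.map φ with hF
  have hle : F ≤ E := by
    rintro _ ⟨y, hy, rfl⟩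
    rw [hφ]; exact pow_mem hy q
  have hxE : ∀ i, x i ∈ E := fun i => IntermediateField.subset_adjoin k _ ⟨i, rfl⟩
  rw [Subfield.relfinrank_eq_finrank_of_le hle]
  set mon : (Fin n → Fin q) → L := fun e => aeval x (monomial (boxExp e) (1 : k)) with hmon
  have hmonprod : ∀ e, mon e = ∏ i, x i ^ (e i : ℕ) := by
    intro e
    simp only [hmon, aeval_monomial, map_one, one_mul]
    rw [Finsupp.prod_fintype _ _ (by simp)]
    rfl
  have hspan : (Subfield.extendScalars hle).toSubalgebra.toSubmodule = Submodule.span F (Set.range mon) := by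
    apply le_antisymm
    · have hint : ∀ z ∈ Set.range x, IsIntegral F z := by
        rintro _ ⟨i, rfl⟩
        refine IsIntegral.of_pow (Nat.pos_of_ne_zero hq) ?_
        have : x i ^ q ∈ F := ⟨x i, hxE i, hφ _⟩
        exact isIntegral_algebraMap (x := (⟨_, this⟩ : F))
      have h1 : E ≤ (IntermediateField.adjoin F (Set.range x)).toSubfield := by
        rw [hE, IntermediateField.adjoin_toSubfield, Subfield.closure_le]
        rintro z (⟨c, rfl⟩ | hz)
        · obtain ⟨d, rfl⟩ := hk c
          have : algebraMap k L (d ^ q) ∈ F :=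
            ⟨algebraMap k L d, (IntermediateField.adjoin k (Set.range x)).algebraMap_mem d, by rw [hφ, map_pow]⟩
          exact (IntermediateField.adjoin F (Set.range x)).algebraMap_mem ⟨_, this⟩
        · exact IntermediateField.subset_adjoin F _ hz
      intro y hy
      have hy' : y ∈ (IntermediateField.adjoin F (Set.range x)).toSubalgebra := h1 hy
      rw [IntermediateField.adjoin_toSubalgebra_of_isAlgebraic
        (fun z hz => (hint z hz).isAlgebraic)] at hy'
      change y ∈ Subalgebra.toSubmodule (Algebra.adjoin F (Set.range x)) at hy'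
      rw [Algebra.adjoin_eq_span] at hy'
      refine (Submodule.span_le.mpr ?_) hy'
      intro z hz
      obtain ⟨a, rfl⟩ : ∃ a : Fin n → ℕ, z = ∏ i, x i ^ a i := by
        induction hz using Submonoid.closure_induction with
        | mem z hz =>
          obtain ⟨i, rfl⟩ := hz
          exact ⟨Pi.single i 1, by rw [Fintype.prod_eq_single i (fun j hj => by simp [hj])]; simp⟩
        | one => exact ⟨0, by simp⟩
        | mul a b _ _ ha hb =>
          obtain ⟨u, rfl⟩ := ha
          obtain ⟨w, rfl⟩ := hb
          exact ⟨u + w, by simp [pow_add, Finset.prod_mul_distrib]⟩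
      have hc : φ (∏ i, x i ^ (a i / q)) ∈ F := ⟨_, prod_mem fun i _ => pow_mem (hxE i) _, rfl⟩
      have : ∏ i, x i ^ a i = (⟨_, hc⟩ : F) • mon (fun i => ⟨a i % q, Nat.mod_lt _ (Nat.pos_of_ne_zero hq)⟩) := by
        show _ = φ _ * mon _
        rw [hmonprod, hφ, ← Finset.prod_pow, ← Finset.prod_mul_distrib]
        refine Finset.prod_congr rfl fun i _ => ?_
        rw [← pow_mul, ← pow_add]
        congr 1
        show a i = a i / q * q + a i % q
        rw [Nat.div_add_mod']
      rw [SetLike.mem_coe, this]
      exact Submodule.smul_mem _ _ (Submodule.subset_span ⟨_, rfl⟩)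
    · rw [Submodule.span_le]
      rintro _ ⟨e, rfl⟩
      show mon e ∈ E
      rw [hmonprod]
      exact prod_mem fun i _ => pow_mem (hxE i) _
  have hli := linearIndependent_monomials φ hφ hq hx
  calc Module.finrank F (Subfield.extendScalars hle)
      = Module.finrank F ((Subfield.extendScalars hle).toSubalgebra.toSubmodule) := rfl
    _ = Module.finrank F (Submodule.span F (Set.range mon)) := by rw [hspan]
    _ = q ^ n := by rw [finrank_span_eq_card hli]; simp

include hφ in
/-- For a finitely generated field extension of transcendence degree `n` of a field with `q`-th roots,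
`[L : L ^ q] = q ^ n`. -/
theorem finrank_fieldRange_pow {n : ℕ} (hq : q ≠ 0) (hk : ∀ c : k, ∃ d, d ^ q = c)
    [Algebra.EssFiniteType k L] (htr : Algebra.trdeg k L = n) :
    Module.finrank φ.fieldRange L = q ^ n := by
  classical
  obtain ⟨ι, x₀, hx₀⟩ := exists_isTranscendenceBasis' k L
  have hcard : Cardinal.mk ι = n := by
    rw [hx₀.cardinalMk_eq_trdeg, htr]
  obtain ⟨e⟩ := Cardinal.mk_eq_nat_iff.mp hcard
  set x : Fin n → L := x₀ ∘ e.symm
  have hx : IsTranscendenceBasis k x := hx₀.comp_equiv e.symm
  set K := IntermediateField.adjoin k (Set.range x) with hK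
  haveI : Algebra.IsAlgebraic K L := hx.isAlgebraic_field
  haveI : Algebra.EssFiniteType K L := Algebra.EssFiniteType.of_comp k K L
  haveI : Module.Finite K L := Algebra.finite_of_essFiniteType_of_isAlgebraic
  have hpos : 0 < Module.finrank K L := Module.finrank_pos
  have hfle : K.toSubfield.map φ ≤ φ.fieldRange := by
    rintro _ ⟨y, -, rfl⟩; exact ⟨y, rfl⟩
  have hle : K.toSubfield.map φ ≤ K.toSubfield := by
    rintro _ ⟨y, hy, rfl⟩
    rw [hφ]; exact pow_mem hy q
  have h1 := Subfield.relfinrank_mul_relfinrank hle (le_top : K.toSubfield ≤ ⊤)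
  have h2 := Subfield.relfinrank_mul_relfinrank hfle (le_top : φ.fieldRange ≤ ⊤)
  have h3 : Subfield.relfinrank (K.toSubfield.map φ) φ.fieldRange = Subfield.relfinrank K.toSubfield ⊤ := by
    rw [RingHom.fieldRange_eq_map, Subfield.relfinrank_map_map]
  rw [relfinrank_adjoin_pow φ hφ hq hk hx.1, Subfield.relfinrank_top_right] at h1
  rw [h3, Subfield.relfinrank_top_right, Subfield.relfinrank_top_right, ← h1, mul_comm] at h2
  exact Nat.eq_of_mul_eq_mul_right hpos h2

end Groth.Agent.H27Weil
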