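import Groth.Agent.H27Weil.Cycles
import Groth.Agent.H27Weil.FrobField
import Groth.Agent.H27Zeta.Pairing
import Mathlib

/-!
# The Frobenius endomorphism of a variety defined over a finite field
-/

set_option autoImplicit false
universe u v w

noncomputable section

open CategoryTheory AlgebraicGeometry WeilCoh TopologicalSpace

namespace Groth.Agent.H27Weil

section Geometry

theorem range_eq_of_spec_eq {S : Scheme.{u}} {L : Type u} [Field L] {y y' : S}
    (a : S.residueField y ⟶ CommRingCat.of L) (b : S.residueField y' ⟶ CommRingCat.of L)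
    (h : Spec.map a ≫ S.fromSpecResidueField y = Spec.map b ≫ S.fromSpecResidueField y') :
    Set.range a.hom = Set.range b.hom := by
  obtain rfl : y = y' := by
    let pt : ↥(Spec (CommRingCat.of L)) := IsLocalRing.closedPoint L
    have h' := congrArg (fun f : Spec (CommRingCat.of L) ⟶ S => f pt) h
    dsimp only at h'
    rw [Scheme.Hom.comp_apply, Scheme.Hom.comp_apply, Scheme.fromSpecResidueField_apply,
      Scheme.fromSpecResidueField_apply] at h'
    exact h'
  rw [Spec.map_injective ((cancel_mono _).mp h)]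

theorem fromSpecResidueField_comp_frob {X : Scheme.{u}} {q : ℕ} (FX : X ⟶ X)
    (hle : ∀ U : X.Opens, U ≤ FX ⁻¹ᵁ U)
    (hFapp : ∀ (U : X.Opens) (s : Γ(X, U)), (FX.appLE U U (hle U)).hom s = s ^ q)
    (y : X) (φ : X.residueField y ⟶ X.residueField y) (hφ : ∀ a, φ.hom a = a ^ q) :
    X.fromSpecResidueField y ≫ FX = Spec.map φ ≫ X.fromSpecResidueField y := by
  obtain ⟨U, (hU : IsAffineOpen U), hyU, -⟩ := Opens.isBasis_iff_nbhd.mp X.isBasis_affineOpens
    (show y ∈ (⊤ : X.Opens) from trivial)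
  have hfac : X.fromSpecResidueField y =
      Spec.map (X.presheaf.germ U y hyU ≫ X.residue y) ≫ hU.fromSpec := by
    rw [Spec.map_comp, Category.assoc]
    show _ = Spec.map (X.residue y) ≫ hU.fromSpecStalk hyU
    rw [hU.fromSpecStalk_eq_fromSpecStalk]
    rfl
  rw [hfac, Category.assoc, ← hU.SpecMap_appLE_fromSpec FX hU (hle U), ← Spec.map_comp_assoc,
    ← Spec.map_comp_assoc]
  congr 2
  ext s
  show (X.residue y).hom ((X.presheaf.germ U y hyU).hom ((FX.appLE U U (hle U)).hom s)) = φ.hom _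
  rw [hFapp, map_pow, map_pow, hφ]
  rfl

theorem isBaseChange_generate {k₀ k : Type u} [Field k₀] [Field k] [Algebra k₀ k] {X Xb : Scheme.{u}}
    {f : X ⟶ Spec (CommRingCat.of k₀)} {g : Xb ⟶ Spec (CommRingCat.of k)} {π : Xb ⟶ X}
    (hπ : IsPullback π g f (Spec.map (CommRingCat.ofHom (algebraMap k₀ k)))) (x : Xb)
    (φ : CommRingCat.of k ⟶ Xb.residueField x) (hφ : Spec.map φ = Xb.fromSpecResidueField x ≫ g) :
    Subfield.closure (Set.range φ.hom ∪ Set.range (π.residueFieldMap x).hom) = ⊤ := by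
  set M := Subfield.closure (Set.range φ.hom ∪ Set.range (π.residueFieldMap x).hom) with hM
  let ι : CommRingCat.of M ⟶ Xb.residueField x := CommRingCat.ofHom M.subtype
  let φ' : CommRingCat.of k ⟶ CommRingCat.of M :=
    CommRingCat.ofHom (φ.hom.codRestrict M fun c => Subfield.subset_closure (Or.inl ⟨c, rfl⟩))
  let π' : X.residueField (π x) ⟶ CommRingCat.of M :=
    CommRingCat.ofHom ((π.residueFieldMap x).hom.codRestrict M
      fun c => Subfield.subset_closure (Or.inr ⟨c, rfl⟩))
  have h1 : φ' ≫ ι = φ := rfl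
  have h2 : π' ≫ ι = π.residueFieldMap x := rfl
  have hcone : (Spec.map π' ≫ X.fromSpecResidueField (π x)) ≫ f =
      Spec.map φ' ≫ Spec.map (CommRingCat.ofHom (algebraMap k₀ k)) := by
    obtain ⟨ψ, hψ⟩ : ∃ ψ, X.fromSpecResidueField (π x) ≫ f = Spec.map ψ := ⟨_, (Spec.map_preimage _).symm⟩
    rw [Category.assoc, hψ, ← Spec.map_comp, ← Spec.map_comp]
    congr 1
    ext c
    have h3 : ψ ≫ π.residueFieldMap x = CommRingCat.ofHom (algebraMap k₀ k) ≫ φ := by
      apply Spec.map_injective
      rw [Spec.map_comp, Spec.map_comp, ← hψ, hφ, ← Category.assoc,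
        Scheme.Hom.SpecMap_residueFieldMap_fromSpecResidueField, Category.assoc, Category.assoc, hπ.w]
    exact congrArg (fun t => t.hom c) h3
  let ℓ := hπ.lift _ _ hcone
  have hℓ : Spec.map ι ≫ ℓ = Xb.fromSpecResidueField x := by
    apply hπ.hom_ext
    · rw [Category.assoc, hπ.lift_fst, ← Spec.map_comp_assoc, h2,
        Scheme.Hom.SpecMap_residueFieldMap_fromSpecResidueField]
    · rw [Category.assoc, hπ.lift_snd, ← Spec.map_comp, h1, hφ]
  obtain ⟨⟨y, θ⟩, hθ⟩ := (Scheme.SpecToEquivOfField M Xb).symm.surjective ℓ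
  have hθ' : Spec.map θ ≫ Xb.fromSpecResidueField y = ℓ := hθ
  have hr := range_eq_of_spec_eq (L := Xb.residueField x) (θ ≫ ι) (𝟙 (Xb.residueField x))
    (by rw [Spec.map_comp, Category.assoc, hθ', hℓ, Spec.map_id]; exact (Category.id_comp _).symm)
  rw [eq_top_iff]
  intro a _
  obtain ⟨b, hb⟩ : a ∈ Set.range (θ ≫ ι).hom := by rw [hr]; exact ⟨a, rfl⟩
  rw [← hb]
  exact (θ.hom b).2

theorem essFiniteType_residueField {k : Type u} [Field k] {X : Scheme.{u}}
    (g : X ⟶ Spec (CommRingCat.of k)) [LocallyOfFiniteType g] (x : X)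
    (φ : CommRingCat.of k ⟶ X.residueField x) (hφ : Spec.map φ = X.fromSpecResidueField x ≫ g) :
    φ.hom.EssFiniteType := by
  let ι : CommRingCat.of k ⟶ (Spec (CommRingCat.of k)).presheaf.stalk (g x) :=
    (Scheme.ΓSpecIso (CommRingCat.of k)).inv ≫
      (Spec (CommRingCat.of k)).presheaf.germ ⊤ (g x) trivial
  have hcomp : φ = ι ≫ g.stalkMap x ≫ X.residue x := by
    apply Spec.map_injective
    rw [hφ, Spec.map_comp, Spec.map_comp, Category.assoc, ← Spec.fromSpecStalk_eq,
      Scheme.SpecMap_stalkMap_fromSpecStalk]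
    rfl
  have hι : Function.Surjective ι.hom := by
    have h1 : Function.Surjective ((Spec (CommRingCat.of k)).presheaf.germ ⊤ (g x) trivial).hom := by
      letI : Algebra Γ(Spec (CommRingCat.of k), ⊤) ((Spec (CommRingCat.of k)).presheaf.stalk (g x)) :=
        ((Spec (CommRingCat.of k)).presheaf.germ ⊤ (g x) trivial).hom.toAlgebra
      haveI := (isAffineOpen_top (Spec (CommRingCat.of k))).isLocalization_stalk ⟨g x, trivial⟩
      have hF : IsField Γ(Spec (CommRingCat.of k), ⊤) :=
        MulEquiv.isField (Field.toIsField k) (Scheme.ΓSpecIso (CommRingCat.of k)).commRingCatIsoToRingEquiv.toMulEquiv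
      intro z
      obtain ⟨a, s, rfl⟩ := IsLocalization.exists_mk'_eq
        ((isAffineOpen_top (Spec (CommRingCat.of k))).primeIdealOf ⟨g x, trivial⟩).asIdeal.primeCompl z
      obtain ⟨t, ht⟩ := hF.mul_inv_cancel (a := (s : Γ(Spec (CommRingCat.of k), ⊤)))
        (fun h => s.2 (by show (s : Γ(Spec (CommRingCat.of k), ⊤)) ∈ _; rw [h]; exact zero_mem _))
      refine ⟨a * t, ?_⟩
      show algebraMap _ _ (a * t) = _
      rw [eq_comm, IsLocalization.mk'_eq_iff_eq_mul, ← map_mul, mul_assoc, mul_comm t, ht, mul_one]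
    exact h1.comp (Scheme.ΓSpecIso (CommRingCat.of k)).commRingCatIsoToRingEquiv.symm.surjective
  rw [hcomp]
  have e1 : ι.hom.EssFiniteType := (RingHom.FiniteType.of_surjective _ hι).essFiniteType
  have e2 : (g.stalkMap x).hom.EssFiniteType := LocallyOfFiniteType.stalkMap g x
  have e3 : (X.residue x).hom.EssFiniteType :=
    (RingHom.FiniteType.of_surjective _ (X.residue_surjective x)).essFiniteType
  rw [CommRingCat.hom_comp, CommRingCat.hom_comp]
  exact RingHom.EssFiniteType.stableUnderComposition _ _ e1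
    (RingHom.EssFiniteType.stableUnderComposition _ _ e2 e3)

end Geometry

section Frob

variable {k₀ : Type u} [Field k₀] [Finite k₀] {k : Type u} [Field k] [IsAlgClosed k] [Algebra k₀ k]
  {X : Scheme.{u}} {f : X ⟶ Spec (CommRingCat.of k₀)}
  {FX : X ⟶ X} {hle : ∀ U : X.Opens, U ≤ FX ⁻¹ᵁ U}
  (hFapp : ∀ (U : X.Opens) (s : Γ(X, U)), (FX.appLE U U (hle U)).hom s = s ^ Nat.card k₀)
  {Xb : Var k} {π : Xb.obj.left ⟶ X}
  (hπ : IsPullback π Xb.obj.hom f (Spec.map (CommRingCat.ofHom (algebraMap k₀ k))))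
  {F : Xb ⟶ Xb} (hF : WeilCoh.sm F ≫ π = π ≫ FX)

include hFapp hπ hF

/-- The residue degree of the Frobenius at a point of dimension `d` is `q ^ d`. -/
theorem residueDegree_frob (x : Xb.obj.left) :
    (sm F).residueDegree x = Nat.card k₀ ^ pdim Xb.obj.left x := by
  classical
  cases nonempty_fintype k₀
  set q := Nat.card k₀ with hq
  set y := sm F x with hy
  let φx : CommRingCat.of k ⟶ Xb.obj.left.residueField x :=
    Spec.preimage (Xb.obj.left.fromSpecResidueField x ≫ Xb.obj.hom)
  let φy : CommRingCat.of k ⟶ Xb.obj.left.residueField y :=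
    Spec.preimage (Xb.obj.left.fromSpecResidueField y ≫ Xb.obj.hom)
  have hφx : Spec.map φx = Xb.obj.left.fromSpecResidueField x ≫ Xb.obj.hom := Spec.map_preimage _
  have hφy : Spec.map φy = Xb.obj.left.fromSpecResidueField y ≫ Xb.obj.hom := Spec.map_preimage _
  let res := (sm F).residueFieldMap x
  have hres : φy ≫ res = φx := by
    apply Spec.map_injective
    rw [Spec.map_comp, hφy, hφx, ← Category.assoc,
      Scheme.Hom.SpecMap_residueFieldMap_fromSpecResidueField, Category.assoc, sm_hom]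
  letI algx : Algebra k (Xb.obj.left.residueField x) := φx.hom.toAlgebra
  letI : Algebra k₀ (Xb.obj.left.residueField x) := (φx.hom.comp (algebraMap k₀ k)).toAlgebra
  letI : Algebra k₀ (X.residueField (π x)) :=
    (Spec.preimage (X.fromSpecResidueField (π x) ≫ f)).hom.toAlgebra
  let frL : Xb.obj.left.residueField x →+* Xb.obj.left.residueField x :=
    (FiniteField.frobeniusAlgHom k₀ (Xb.obj.left.residueField x)).toRingHom
  have hfrL : ∀ a, frL a = a ^ q := fun a => by
    rw [hq, Nat.card_eq_fintype_card]; rfl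
  let fr₀ : X.residueField (π x) ⟶ X.residueField (π x) :=
    CommRingCat.ofHom (FiniteField.frobeniusAlgHom k₀ (X.residueField (π x))).toRingHom
  have hfr₀ : ∀ a, fr₀.hom a = a ^ q := fun a => by
    rw [hq, Nat.card_eq_fintype_card]; rfl
  have hrange : Set.range (π.residueFieldMap y ≫ res).hom =
      Set.range (fr₀ ≫ π.residueFieldMap x).hom := by
    have e1 := Scheme.Hom.SpecMap_residueFieldMap_fromSpecResidueField π y
    have e2 := Scheme.Hom.SpecMap_residueFieldMap_fromSpecResidueField π x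
    have e3 := Scheme.Hom.SpecMap_residueFieldMap_fromSpecResidueField (sm F) x
    have e4 := fromSpecResidueField_comp_frob FX hle hFapp (π x) fr₀ hfr₀
    refine range_eq_of_spec_eq (S := X) (y := π y) (y' := π x) (L := Xb.obj.left.residueField x)
      (π.residueFieldMap y ≫ res) (fr₀ ≫ π.residueFieldMap x) ?_
    calc Spec.map (π.residueFieldMap y ≫ res) ≫ X.fromSpecResidueField (π y)
        = Spec.map res ≫ (Spec.map (π.residueFieldMap y) ≫ X.fromSpecResidueField (π y)) := by
          rw [Spec.map_comp, Category.assoc]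
      _ = Spec.map res ≫ (Xb.obj.left.fromSpecResidueField y ≫ π) := by rw [e1]
      _ = (Xb.obj.left.fromSpecResidueField x ≫ sm F) ≫ π := by rw [← Category.assoc, ← e3]
      _ = Xb.obj.left.fromSpecResidueField x ≫ (π ≫ FX) := by rw [Category.assoc, hF]
      _ = Spec.map (π.residueFieldMap x) ≫ (X.fromSpecResidueField (π x) ≫ FX) := by
          rw [← Category.assoc, ← e2, Category.assoc]
      _ = Spec.map (fr₀ ≫ π.residueFieldMap x) ≫ X.fromSpecResidueField (π x) := by
          rw [e4, Spec.map_comp, Category.assoc]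
  have hkperf : ∀ c : k, ∃ d, d ^ q = c := fun c => IsAlgClosed.exists_pow_nat_eq c Nat.card_pos
  have hsub : res.hom.fieldRange = frL.fieldRange := by
    rw [RingHom.fieldRange_eq_map, RingHom.fieldRange_eq_map,
      ← isBaseChange_generate hπ y φy hφy, ← isBaseChange_generate hπ x φx hφx,
      RingHom.map_field_closure, RingHom.map_field_closure, Set.image_union, Set.image_union]
    congr 1
    have h1 : res.hom '' Set.range φy.hom = Set.range φx.hom := by
      rw [← Set.range_comp, ← hres]; rfl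
    have h2 : res.hom '' Set.range (π.residueFieldMap y).hom =
        frL '' Set.range (π.residueFieldMap x).hom := by
      rw [← Set.range_comp, ← Set.range_comp]
      refine Eq.trans hrange ?_
      congr 1
      funext a
      show (π.residueFieldMap x).hom (fr₀.hom a) = frL ((π.residueFieldMap x).hom a)
      rw [hfr₀, hfrL, map_pow]
    have h3 : frL '' Set.range φx.hom = Set.range φx.hom := by
      ext z
      constructor
      · rintro ⟨_, ⟨c, rfl⟩, rfl⟩
        exact ⟨c ^ q, by rw [map_pow, hfrL]⟩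
      · rintro ⟨c, rfl⟩
        obtain ⟨d, rfl⟩ := hkperf c
        exact ⟨φx.hom d, ⟨d, rfl⟩, by rw [map_pow, hfrL]⟩
    rw [h1, h2, h3]
  obtain ⟨s, hs, hs'⟩ := Groth.Agent.H8Props.FieldDim.exists_trdeg Xb.obj.hom (L := Xb.obj.left.residueField x)
    (Xb.obj.left.fromSpecResidueField x) hφx.symm (IsLocalRing.closedPoint _)
  erw [Scheme.fromSpecResidueField_apply] at hs
  rw [cdim_eq_pdim] at hs
  have h1 : pdim Xb.obj.left x = s := by exact_mod_cast hs
  haveI : Algebra.EssFiniteType k (Xb.obj.left.residueField x) :=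
    essFiniteType_residueField Xb.obj.hom x φx hφx
  have hmain := finrank_fieldRange_pow frL hfrL (Nat.card_pos).ne' hkperf hs'
  rw [← hsub, ← finrank_toAlgebra_eq] at hmain
  rw [h1]
  exact hmain

theorem residueDegree_frob_ne_zero (x : Xb.obj.left) : (sm F).residueDegree x ≠ 0 := by
  rw [residueDegree_frob hFapp hπ hF x]
  exact pow_ne_zero _ Nat.card_pos.ne'

theorem frob_genericPoint : sm F (genericPoint ↥Xb.obj.left) = genericPoint ↥Xb.obj.left := by
  apply eq_genericPoint_of_pdim
  rw [← pdim_map_eq F _ (residueDegree_frob_ne_zero hFapp hπ hF _), pdim_genericPoint]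

variable {K : Type v} [Field K] [CharZero K] (T : Theory.{u, v} k K)

/-- The Frobenius multiplies the trace by `q ^ dim`. -/
theorem tr_pull_frob {a : T.H Xb} (ha : a ∈ T.gr Xb (2 * (WeilCoh.dim Xb.obj.left : ℤ))) :
    T.tr Xb (T.pull F a) = (Nat.card k₀ : K) ^ WeilCoh.dim Xb.obj.left * T.tr Xb a := by
  rw [tr_pull_of_dominant T F (frob_genericPoint hFapp hπ hF) rfl ha,
    residueDegree_frob hFapp hπ hF, pdim_genericPoint, Nat.cast_pow]

/-- The Frobenius is a similitude for the duality pairing. -/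
theorem pairing_frob (i : ℤ) (v : ↥(T.gr Xb i))
    (w : ↥(T.gr Xb (2 * (WeilCoh.dim Xb.obj.left : ℤ) - i))) :
    pairing K (T.gr Xb i) (T.gr Xb (2 * (WeilCoh.dim Xb.obj.left : ℤ) - i)) (T.tr Xb)
        (T.pullDeg F i v) (T.pullDeg F _ w) =
      (Nat.card k₀ : K) ^ WeilCoh.dim Xb.obj.left *
        pairing K (T.gr Xb i) (T.gr Xb (2 * (WeilCoh.dim Xb.obj.left : ℤ) - i)) (T.tr Xb) v w := by
  show T.tr Xb (T.pull F (v : T.H Xb) * T.pull F (w : T.H Xb)) = _
  rw [← map_mul, tr_pull_frob hFapp hπ hF T]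
  · rfl
  · have := SetLike.mul_mem_graded (A := T.gr Xb) v.2 w.2
    convert this using 2
    ring

theorem det_mul_det_frob (i : ℤ) :
    LinearMap.det (T.pullDeg F (2 * (WeilCoh.dim Xb.obj.left : ℤ) - i)) * LinearMap.det (T.pullDeg F i) =
      (Nat.card k₀ : K) ^ (WeilCoh.dim Xb.obj.left * Module.finrank K ↥(T.gr Xb i)) := by
  haveI := T.duality Xb i (2 * (WeilCoh.dim Xb.obj.left : ℤ) - i) (by omega)
  rw [mul_comm, pow_mul]
  exact H27Zeta.det_mul_det _ _ _ _ (pairing_frob hFapp hπ hF T i)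

end Frob

theorem charpoly_smul_comp {L V : Type*} [Field L] [AddCommGroup V] [Module L V] [FiniteDimensional L V]
    (F : V →ₗ[L] V) {c : L} (hc : c ≠ 0) :
    c ^ Module.finrank L V • (c⁻¹ • F).charpoly = F.charpoly.comp (Polynomial.C c * Polynomial.X) := by
  classical
  set b := Module.finBasis L V
  set M := LinearMap.toMatrix b b F with hM
  rw [← LinearMap.charpoly_toMatrix (c⁻¹ • F) b, ← LinearMap.charpoly_toMatrix F b, map_smul, ← hM,
    Polynomial.smul_eq_C_mul, map_pow]
  show _ = Polynomial.compRingHom (Polynomial.C c * Polynomial.X) M.charpoly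
  have h1 : (M.charmatrix).map (Polynomial.compRingHom (Polynomial.C c * Polynomial.X)) =
      Polynomial.C c • (c⁻¹ • M).charmatrix := by
    ext1 i j
    simp only [Matrix.map_apply, Matrix.smul_apply, smul_eq_mul, Polynomial.coe_compRingHom_apply,
      Matrix.charmatrix_apply, Matrix.diagonal_apply, Polynomial.sub_comp, Polynomial.C_comp]
    rw [map_mul, mul_sub, ← mul_assoc (Polynomial.C c) (Polynomial.C c⁻¹), ← map_mul, mul_inv_cancel₀ hc,
      map_one, one_mul]
    split_ifs <;> simp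
  rw [Matrix.charpoly, Matrix.charpoly, RingHom.map_det, RingHom.mapMatrix_apply, h1, Matrix.det_smul,
    Fintype.card_fin]

section Frob

variable {k₀ : Type u} [Field k₀] [Finite k₀] {k : Type u} [Field k] [IsAlgClosed k] [Algebra k₀ k]
  {X : Scheme.{u}} {f : X ⟶ Spec (CommRingCat.of k₀)}
  {FX : X ⟶ X} {hle : ∀ U : X.Opens, U ≤ FX ⁻¹ᵁ U}
  (hFapp : ∀ (U : X.Opens) (s : Γ(X, U)), (FX.appLE U U (hle U)).hom s = s ^ Nat.card k₀)
  {Xb : Var k} {π : Xb.obj.left ⟶ X}
  (hπ : IsPullback π Xb.obj.hom f (Spec.map (CommRingCat.ofHom (algebraMap k₀ k))))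
  {F : Xb ⟶ Xb} (hF : WeilCoh.sm F ≫ π = π ≫ FX)
  {K : Type v} [Field K] [CharZero K] (T : Theory.{u, v} k K)

include hFapp hπ hF

theorem functional_eq_frob (i : ℤ) :
    LinearMap.det (T.pullDeg F i) •
        (LinearMap.charpoly (T.pullDeg F (2 * (WeilCoh.dim Xb.obj.left : ℤ) - i))).reverse =
      (-1 : Polynomial K) ^ Module.finrank K ↥(T.gr Xb i) *
        (LinearMap.charpoly (T.pullDeg F i)).comp
          (Polynomial.C ((Nat.card k₀ : K) ^ WeilCoh.dim Xb.obj.left) * Polynomial.X) := by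
  haveI := T.duality Xb i (2 * (WeilCoh.dim Xb.obj.left : ℤ) - i) (by omega)
  have hc : ((Nat.card k₀ : K) ^ WeilCoh.dim Xb.obj.left) ≠ 0 :=
    pow_ne_zero _ (Nat.cast_ne_zero.mpr Nat.card_pos.ne')
  have hd := H27Zeta.finrank_eq_of_pairing (pairing K (T.gr Xb i)
    (T.gr Xb (2 * (WeilCoh.dim Xb.obj.left : ℤ) - i)) (T.tr Xb))
  rw [H27Zeta.charpoly_pairing _ _ _ _ hc (pairing_frob hFapp hπ hF T i), hd,
    ← charpoly_smul_comp (T.pullDeg F i) hc, mul_smul]
  simp only [Polynomial.smul_eq_C_mul, map_pow, map_neg, map_one]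

end Frob

end Groth.Agent.H27Weil
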