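import Groth.Agent.H27Weil.FixedPoints
import Groth.Agent.H27Weil.Frobenius
import Groth.Prelude.Def_W4c1zetahwZeta
import Mathlib

/-!
# Fixed points of the powers of Frobenius and point counts
-/

set_option autoImplicit false
universe u v w

noncomputable section

open CategoryTheory AlgebraicGeometry WeilCoh TopologicalSpace

namespace Groth.Agent.H27Weil

section General

/-- Powers of an endomorphism. -/
def fpow {C : Type*} [Category* C] {X : C} (F : X ⟶ X) : ℕ → (X ⟶ X)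
  | 0 => 𝟙 X
  | m + 1 => fpow F m ≫ F

theorem sm_fpow {k : Type u} [Field k] {P : ObjectProperty (Over (Spec (CommRingCat.of k)))}
    {X : P.FullSubcategory} (F : X ⟶ X) : ∀ m, sm (fpow F m) = fpow (sm F) m
  | 0 => rfl
  | m + 1 => by
    show sm (fpow F m ≫ F) = fpow (sm F) m ≫ sm F
    rw [sm_comp, sm_fpow F m]

theorem fpow_comp {C : Type*} [Category* C] {X Y : C} {F : X ⟶ X} {G : Y ⟶ Y} {π : X ⟶ Y}
    (h : F ≫ π = π ≫ G) : ∀ m, fpow F m ≫ π = π ≫ fpow G m
  | 0 => by simp [fpow]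
  | m + 1 => by
    show (fpow F m ≫ F) ≫ π = π ≫ (fpow G m ≫ G)
    rw [Category.assoc, h, ← Category.assoc, fpow_comp h m, Category.assoc]

theorem comp_frob_of_local {X : Scheme.{u}} {q : ℕ} (FX : X ⟶ X)
    (hle : ∀ U : X.Opens, U ≤ FX ⁻¹ᵁ U)
    (hFapp : ∀ (U : X.Opens) (s : Γ(X, U)), (FX.appLE U U (hle U)).hom s = s ^ q)
    {R : CommRingCat.{u}} [IsLocalRing R] (φ : R ⟶ R) (hφ : ∀ a, φ.hom a = a ^ q)
    (h : Spec R ⟶ X) : h ≫ FX = Spec.map φ ≫ h := by
  obtain ⟨y, hy⟩ : ∃ y, y = h (IsLocalRing.closedPoint R) := ⟨_, rfl⟩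
  obtain ⟨U, (hU : IsAffineOpen U), hyU, -⟩ := Opens.isBasis_iff_nbhd.mp X.isBasis_affineOpens
    (show y ∈ (⊤ : X.Opens) from trivial)
  subst hy
  have hfac : h = Spec.map (X.presheaf.germ U _ hyU ≫ Scheme.stalkClosedPointTo h) ≫ hU.fromSpec := by
    conv_lhs => rw [← Scheme.Spec_stalkClosedPointTo_fromSpecStalk h]
    rw [Spec.map_comp, Category.assoc, ← hU.fromSpecStalk_eq_fromSpecStalk hyU]
    rfl
  generalize X.presheaf.germ U _ hyU ≫ Scheme.stalkClosedPointTo h = θ at hfac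
  subst hfac
  rw [Category.assoc, ← hU.SpecMap_appLE_fromSpec FX hU (hle U), ← Spec.map_comp_assoc,
    ← Spec.map_comp_assoc]
  congr 2
  ext s
  show θ.hom ((FX.appLE U U (hle U)).hom s) = φ.hom (θ.hom s)
  rw [hFapp, map_pow, hφ]

theorem exists_pow_card_pow_hom (k₀ : Type u) [Field k₀] [Finite k₀] (R : Type u) [CommRing R]
    [Algebra k₀ R] : ∀ m, ∃ φ : R →+* R, ∀ a, φ a = a ^ (Nat.card k₀ ^ m)
  | 0 => ⟨RingHom.id R, fun a => by simp⟩
  | m + 1 => by
    cases nonempty_fintype k₀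
    obtain ⟨φ, hφ⟩ := exists_pow_card_pow_hom k₀ R m
    refine ⟨φ.comp (FiniteField.frobeniusAlgHom k₀ R).toRingHom, fun a => ?_⟩
    show φ ((FiniteField.frobeniusAlgHom k₀ R) a) = _
    rw [hφ, pow_succ', pow_mul, Nat.card_eq_fintype_card]
    rfl

theorem comp_fpow_frob {X : Scheme.{u}} {k₀ : Type u} [Field k₀] [Finite k₀] (FX : X ⟶ X)
    (hle : ∀ U : X.Opens, U ≤ FX ⁻¹ᵁ U)
    (hFapp : ∀ (U : X.Opens) (s : Γ(X, U)), (FX.appLE U U (hle U)).hom s = s ^ Nat.card k₀)
    (R : Type u) [CommRing R] [IsLocalRing R] [Algebra k₀ R] (h : Spec (CommRingCat.of R) ⟶ X) :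
    ∀ (m : ℕ) (φ : R →+* R), (∀ a, φ a = a ^ (Nat.card k₀ ^ m)) →
      h ≫ fpow FX m = Spec.map (CommRingCat.ofHom φ) ≫ h
  | 0, φ, hφ => by
    obtain rfl : φ = RingHom.id R := RingHom.ext fun a => by simp [hφ]
    show h ≫ 𝟙 X = _
    rw [Category.comp_id, CommRingCat.ofHom_id, Spec.map_id, Category.id_comp]
  | m + 1, φ, hφ => by
    cases nonempty_fintype k₀
    obtain ⟨φm, hφm⟩ := exists_pow_card_pow_hom k₀ R m
    let φ1 : R →+* R := (FiniteField.frobeniusAlgHom k₀ R).toRingHom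
    have hφ1 : ∀ a, φ1 a = a ^ Nat.card k₀ := fun a => by rw [Nat.card_eq_fintype_card]; rfl
    show h ≫ (fpow FX m ≫ FX) = _
    rw [← Category.assoc, comp_fpow_frob FX hle hFapp R h m φm hφm, Category.assoc,
      comp_frob_of_local FX hle hFapp (CommRingCat.ofHom φ1) hφ1 h, ← Spec.map_comp_assoc,
      ← CommRingCat.ofHom_comp]
    congr 3
    refine RingHom.ext fun a => ?_
    show φm (φ1 a) = φ a
    rw [hφ, hφm, hφ1, ← pow_mul, pow_succ']

end General

theorem mem_of_mk2 {O : CommRingCat.{u}} (J : Ideal O) (g : O ⟶ CommRingCat.of (O ⧸ J))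
    (hg : g.hom = Ideal.Quotient.mk J) (b : O) (h : g.hom b = 0) : b ∈ J := by
  rw [hg] at h
  exact Ideal.Quotient.eq_zero_iff_mem.mp h

section Points

variable {k₀ : Type u} [Field k₀] [Finite k₀] {k : Type u} [Field k] [IsAlgClosed k] [Algebra k₀ k]
  {X : Scheme.{u}} {f : X ⟶ Spec (CommRingCat.of k₀)}
  {FX : X ⟶ X} {hle : ∀ U : X.Opens, U ≤ FX ⁻¹ᵁ U}
  (hFapp : ∀ (U : X.Opens) (s : Γ(X, U)), (FX.appLE U U (hle U)).hom s = s ^ Nat.card k₀)
  {Xb : Var k} {π : Xb.obj.left ⟶ X}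
  (hπ : IsPullback π Xb.obj.hom f (Spec.map (CommRingCat.ofHom (algebraMap k₀ k))))
  {F : Xb ⟶ Xb} (hF : WeilCoh.sm F ≫ π = π ≫ FX)

include hFapp hπ hF

theorem frob_fixed_zero (m : ℕ) (hm : m ≠ 0) (w : Xb.obj.left) (hw : IsClosed ({w} : Set Xb.obj.left))
    (hG : sm (fpow F m) w = w) (a : Xb.obj.left.presheaf.stalk (sm (fpow F m) w))
    (ha : a ∈ IsLocalRing.maximalIdeal _) :
    ((sm (fpow F m)).stalkMap w).hom a ∈ IsLocalRing.maximalIdeal (Xb.obj.left.presheaf.stalk w) ^ 2 := by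
  classical
  obtain ⟨c, hc, hcG, hcw⟩ : ∃ c : Spec (CommRingCat.of k) ⟶ Xb.obj.left,
      c ≫ Xb.obj.hom = 𝟙 _ ∧ c ≫ sm (fpow F m) = c ∧ w = c (IsLocalRing.closedPoint (CommRingCat.of k)) :=
    ⟨pointOfClosedPoint Xb.obj.hom w hw, pointOfClosedPoint_comp _ _ _, point_comp_eq Xb _ hw hG,
      (pointOfClosedPoint_apply _ _ _ _).symm⟩
  subst hcw
  revert a ha
  set G := sm (fpow F m) with hGdef
  set x := c (IsLocalRing.closedPoint (CommRingCat.of k))
  intro a ha
  set θ := Scheme.stalkClosedPointTo c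
  have hθ : Spec.map θ ≫ Xb.obj.left.fromSpecStalk x = c := Scheme.Spec_stalkClosedPointTo_fromSpecStalk c
  let M := IsLocalRing.maximalIdeal (Xb.obj.left.presheaf.stalk x)
  have hθM : ∀ b ∈ M, θ.hom b = 0 := by
    intro b hb
    by_contra hne
    exact hb (isUnit_of_map_unit θ.hom b (isUnit_iff_ne_zero.mpr hne))
  have hM2 : M ^ 2 ≠ ⊤ := fun h => (IsLocalRing.maximalIdeal.isMaximal _).ne_top (top_le_iff.mp
    (h ▸ Ideal.pow_le_self two_ne_zero))
  let R := Xb.obj.left.presheaf.stalk x ⧸ M ^ 2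
  haveI : Nontrivial R := Ideal.Quotient.nontrivial_iff.mpr hM2
  haveI : IsLocalRing R := IsLocalRing.of_surjective' (Ideal.Quotient.mk (M ^ 2)) Ideal.Quotient.mk_surjective
  let ev : R →+* k := Ideal.Quotient.lift (M ^ 2) θ.hom fun b hb => hθM b (Ideal.pow_le_self two_ne_zero hb)
  let mk2 : Xb.obj.left.presheaf.stalk x ⟶ CommRingCat.of R := CommRingCat.ofHom (Ideal.Quotient.mk (M ^ 2))
  let hR : Spec (CommRingCat.of R) ⟶ Xb.obj.left := Spec.map mk2 ≫ Xb.obj.left.fromSpecStalk x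
  have hev : Spec.map (CommRingCat.ofHom ev) ≫ hR = c := by
    rw [← Category.assoc, ← Spec.map_comp, show mk2 ≫ CommRingCat.ofHom ev = θ from by ext b; rfl, hθ]
  let ι : CommRingCat.of k ⟶ CommRingCat.of R := Spec.preimage (hR ≫ Xb.obj.hom)
  have hι : Spec.map ι = hR ≫ Xb.obj.hom := Spec.map_preimage _
  have hιev : ι ≫ CommRingCat.ofHom ev = 𝟙 _ := by
    apply Spec.map_injective
    rw [Spec.map_comp, hι, ← Category.assoc, hev, hc, Spec.map_id]
  letI : Algebra k₀ R := (ι.hom.comp (algebraMap k₀ k)).toAlgebra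
  obtain ⟨φ, hφ⟩ := exists_pow_card_pow_hom k₀ R m
  obtain ⟨σ, hσ⟩ := exists_pow_card_pow_hom k₀ k m
  have hQ2 : 2 ≤ Nat.card k₀ ^ m := Finite.one_lt_card.trans_le (Nat.le_self_pow hm _)
  have hfac : CommRingCat.ofHom φ = CommRingCat.ofHom ev ≫ CommRingCat.ofHom σ ≫ ι := by
    refine CommRingCat.hom_ext (RingHom.ext fun (r : R) => ?_)
    show φ r = ι.hom (σ (ev r))
    have hz : φ (r - ι.hom (ev r)) = 0 := by
      obtain ⟨z, hz⟩ := Ideal.Quotient.mk_surjective (r - ι.hom (ev r))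
      have hzM : z ∈ M := by
        intro hu
        have h1 : ev (r - ι.hom (ev r)) = 0 := by
          rw [map_sub, sub_eq_zero]
          exact (congrArg (fun t => t.hom (ev r)) hιev).symm
        rw [← hz] at h1
        exact (hu.map θ.hom).ne_zero h1
      rw [hφ, ← hz, ← map_pow, Ideal.Quotient.eq_zero_iff_mem]
      exact Ideal.pow_le_pow_right hQ2 (Ideal.pow_mem_pow hzM _)
    rw [map_sub, sub_eq_zero] at hz
    rw [hz, hφ, ← map_pow, hσ]
  have hkey : hR ≫ G = Spec.map ι ≫ c := by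
    apply hπ.hom_ext
    · rw [Category.assoc, hGdef, sm_fpow, fpow_comp hF m, ← Category.assoc,
        comp_fpow_frob FX hle hFapp R (hR ≫ π) m φ hφ, hfac, Spec.map_comp, Spec.map_comp]
      simp only [Category.assoc]
      rw [← Category.assoc (Spec.map (CommRingCat.ofHom ev)), hev,
        ← comp_fpow_frob FX hle hFapp k (c ≫ π) m σ hσ, Category.assoc c, ← fpow_comp hF m, ← sm_fpow,
        ← Category.assoc c, ← hGdef, hcG]
    · rw [Category.assoc hR, sm_hom, Category.assoc (Spec.map ι), hc, Category.comp_id, hι]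
  have hz : G.stalkMap x ≫ mk2 = G.stalkMap x ≫ θ ≫ ι := by
    apply Spec.map_injective
    rw [← cancel_mono (Xb.obj.left.fromSpecStalk (G x)), Spec.map_comp, Spec.map_comp, Spec.map_comp]
    simp only [Category.assoc, Scheme.SpecMap_stalkMap_fromSpecStalk]
    rw [← Category.assoc, hkey, ← Category.assoc (Spec.map θ), hθ, hcG]
  have hmk2 : mk2.hom = Ideal.Quotient.mk (M ^ 2) := rfl
  clear_value mk2 ι
  have hb : θ.hom ((G.stalkMap x).hom a) = 0 :=
    hθM _ (IsLocalRing.map_maximalIdeal_le (G.stalkMap x).hom (Ideal.mem_map_of_mem _ ha))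
  have h := RingHom.congr_fun (congrArg CommRingCat.Hom.hom hz) a
  rw [CommRingCat.hom_comp, CommRingCat.hom_comp, CommRingCat.hom_comp, RingHom.comp_apply,
    RingHom.comp_apply, RingHom.comp_apply, hb, map_zero] at h
  exact mem_of_mk2 _ mk2 hmk2 _ h

omit hFapp hπ hF

theorem residueDegree_base_eq (f : X ⟶ Spec (CommRingCat.of k₀)) (x : X)
    (ψ : CommRingCat.of k₀ ⟶ X.residueField x) (hψ : Spec.map ψ = X.fromSpecResidueField x ≫ f) :
    EGA4loc.residueDegree f x = @Module.finrank k₀ (X.residueField x) _ _ ψ.hom.toAlgebra.toModule := by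
  show @Module.finrank ((Spec (CommRingCat.of k₀)).residueField (f x)) (X.residueField x) _ _
    (f.residueFieldMap x).hom.toAlgebra.toModule = _
  rw [finrank_toAlgebra_eq, finrank_toAlgebra_eq]
  haveI : (f x).asIdeal.IsMaximal := by
    rcases Ideal.eq_bot_or_top (f x).asIdeal with h | h
    · rw [h]; exact Ideal.bot_isMaximal
    · exact absurd h (f x).isPrime.ne_top
  let ι' : CommRingCat.of k₀ ⟶ (Spec (CommRingCat.of k₀)).residueField (f x) :=
    CommRingCat.ofHom (algebraMap k₀ (f x).asIdeal.ResidueField) ≫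
      (Scheme.Spec.residueFieldIso (CommRingCat.of k₀) (f x)).inv
  have hι' : Spec.map ι' = (Spec (CommRingCat.of k₀)).fromSpecResidueField (f x) :=
    (Spec.map_comp _ _).trans (Scheme.Spec.map_residueFieldIso_inv_eq_fromSpecResidueField (CommRingCat.of k₀) (f x))
  have hcomp : ψ = ι' ≫ f.residueFieldMap x := by
    apply Spec.map_injective
    rw [hψ, Spec.map_comp, hι', Scheme.Hom.SpecMap_residueFieldMap_fromSpecResidueField]
  have hsurj : Function.Surjective ι'.hom :=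
    ((Scheme.Spec.residueFieldIso (CommRingCat.of k₀) (f x)).symm.commRingCatIsoToRingEquiv.surjective).comp
      (Ideal.algebraMap_residueField_surjective _)
  have hr : (f.residueFieldMap x).hom.fieldRange = ψ.hom.fieldRange := by
    ext a
    simp only [RingHom.mem_fieldRange, hcomp, CommRingCat.hom_comp, RingHom.comp_apply]
    exact hsurj.exists
  rw [hr]

theorem isClosed_of_finite_residueField [LocallyOfFiniteType f] (x : X)
    (h : EGA4loc.residueDegree f x ≠ 0) : IsClosed ({x} : Set X) := by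
  let ψ : CommRingCat.of k₀ ⟶ X.residueField x := Spec.preimage (X.fromSpecResidueField x ≫ f)
  have hψ : Spec.map ψ = X.fromSpecResidueField x ≫ f := Spec.map_preimage _
  rw [residueDegree_base_eq f x ψ hψ] at h
  letI : Algebra k₀ (X.residueField x) := ψ.hom.toAlgebra
  haveI : Module.Finite k₀ (X.residueField x) := Module.finite_of_finrank_pos (Nat.pos_of_ne_zero h)
  have h0 : Algebra.trdeg k₀ (X.residueField x) = 0 :=
    trdeg_eq_zero_iff.2 (Algebra.IsAlgebraic.of_finite _ _)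
  obtain ⟨s, hs, hs'⟩ := Groth.Agent.H8Props.FieldDim.exists_trdeg f (L := X.residueField x)
    (X.fromSpecResidueField x) hψ.symm (IsLocalRing.closedPoint _)
  erw [Scheme.fromSpecResidueField_apply] at hs
  rw [h0] at hs'
  have hs0 : s = 0 := by exact_mod_cast hs'.symm
  have : closure ({x} : Set X) = {x} := by
    refine Set.Subset.antisymm (fun y hy => ?_) subset_closure
    by_contra hne
    have hlt := Groth.Agent.H8Props.FieldDim.cdim_lt (k := k₀) f (specializes_iff_mem_closure.mpr hy)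
      (fun h' => hne (by simp [h']))
    rw [hs, hs0] at hlt
    obtain ⟨t, ht⟩ := Groth.Agent.H8Props.FieldDim.exists_nat_cdim (k := k₀) f y
    rw [ht] at hlt
    exact absurd hlt (by simp)
  rw [← this]; exact isClosed_closure

theorem fixed_hom_iff (L : Type u) [Field L] [Algebra k₀ L] (θ : L →ₐ[k₀] k) {m : ℕ} (hm : m ≠ 0) :
    (∀ a, θ a ^ (Nat.card k₀ ^ m) = θ a) ↔ Module.finrank k₀ L ∈ m.divisors := by
  cases nonempty_fintype k₀
  have hQ : 1 < Nat.card k₀ ^ m := Nat.one_lt_pow hm Finite.one_lt_card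
  constructor
  · intro h
    have hfix : ∀ a : L, a ^ (Nat.card k₀ ^ m) = a := fun a => θ.toRingHom.injective (by
      show θ (a ^ (Nat.card k₀ ^ m)) = θ a
      rw [map_pow, h])
    haveI : Finite L := by
      have hs : (Set.univ : Set L) ⊆
          {a | (Polynomial.X ^ (Nat.card k₀ ^ m) - Polynomial.X : Polynomial L).IsRoot a} := by
        intro a _
        show Polynomial.eval a _ = 0
        rw [Polynomial.eval_sub, Polynomial.eval_pow, Polynomial.eval_X, hfix a, sub_self]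
      exact Set.finite_univ_iff.mp ((Polynomial.finite_setOf_isRoot
        (FiniteField.X_pow_card_sub_X_ne_zero L hQ)).subset hs)
    haveI : Module.Finite k₀ L := Module.Finite.of_finite
    rw [Nat.mem_divisors]
    refine ⟨?_, hm⟩
    rw [← FiniteField.orderOf_frobeniusAlgHom k₀ L, orderOf_dvd_iff_pow_eq_one]
    ext a
    rw [AlgHom.coe_pow, FiniteField.coe_frobeniusAlgHom, pow_iterate, AlgHom.one_apply]
    simpa [Nat.card_eq_fintype_card] using hfix a
  · intro h a
    obtain ⟨hd, -⟩ := Nat.mem_divisors.mp h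
    have hpos : 0 < Module.finrank k₀ L := Nat.pos_of_dvd_of_pos hd (Nat.pos_of_ne_zero hm)
    haveI : Module.Finite k₀ L := Module.finite_of_finrank_pos hpos
    haveI : Finite L := Module.finite_of_finite k₀
    cases nonempty_fintype L
    rw [← map_pow]
    congr 1
    obtain ⟨c, hc⟩ := hd
    rw [hc, pow_mul, ← Module.natCard_eq_pow_finrank, Nat.card_eq_fintype_card, FiniteField.pow_card_pow]

include hFapp hπ hF in
theorem fixed_to_hom (m : ℕ) (σ : k →+* k) (hσ : ∀ a, σ a = a ^ (Nat.card k₀ ^ m)) :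
    ∃ g : {w : Xb.obj.left // IsClosed ({w} : Set Xb.obj.left) ∧ sm (fpow F m) w = w} →
      {h : Spec (CommRingCat.of k) ⟶ X //
        h ≫ f = Spec.map (CommRingCat.ofHom (algebraMap k₀ k)) ∧ Spec.map (CommRingCat.ofHom σ) ≫ h = h},
      Function.Bijective g := by
  have hfrob : ∀ c : Spec (CommRingCat.of k) ⟶ Xb.obj.left, c ≫ sm (fpow F m) ≫ π =
      Spec.map (CommRingCat.ofHom σ) ≫ (c ≫ π) := by
    intro c
    rw [sm_fpow, fpow_comp hF m, ← Category.assoc, comp_fpow_frob FX hle hFapp k (c ≫ π) m σ hσ]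
  refine ⟨fun w =>
    ⟨pointOfClosedPoint Xb.obj.hom w.1 w.2.1 ≫ π, by
      rw [Category.assoc, hπ.w, ← Category.assoc, pointOfClosedPoint_comp, Category.id_comp], by
      rw [← hfrob, ← Category.assoc, point_comp_eq Xb _ w.2.1 w.2.2]⟩, ?_, ?_⟩
  · intro w w' h
    apply Subtype.ext
    have h1 : pointOfClosedPoint Xb.obj.hom w.1 w.2.1 = pointOfClosedPoint Xb.obj.hom w'.1 w'.2.1 :=
      hπ.hom_ext (congrArg Subtype.val h) (by rw [pointOfClosedPoint_comp, pointOfClosedPoint_comp])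
    let pt : ↥(Spec (CommRingCat.of k)) := IsLocalRing.closedPoint k
    have h2 := congrArg (fun t : Spec (CommRingCat.of k) ⟶ Xb.obj.left => t pt) h1
    dsimp only at h2
    rwa [pointOfClosedPoint_apply, pointOfClosedPoint_apply] at h2
  · rintro ⟨h, hh1, hh2⟩
    obtain ⟨c, hc, hcπ⟩ : ∃ c : Spec (CommRingCat.of k) ⟶ Xb.obj.left, c ≫ Xb.obj.hom = 𝟙 _ ∧ c ≫ π = h :=
      ⟨hπ.lift h (𝟙 _) (by rw [hh1, Category.id_comp]), hπ.lift_snd _ _ _, hπ.lift_fst _ _ _⟩
    have hcG : c ≫ sm (fpow F m) = c := by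
      apply hπ.hom_ext
      · rw [Category.assoc, hfrob, hcπ, hh2]
      · rw [Category.assoc, sm_hom]
    have hfix : sm (fpow F m) (pointEquivClosedPoint Xb.obj.hom ⟨c, hc⟩).1 =
        (pointEquivClosedPoint Xb.obj.hom ⟨c, hc⟩).1 :=
      congrArg (fun t : Spec (CommRingCat.of k) ⟶ Xb.obj.left =>
        t (IsLocalRing.closedPoint (CommRingCat.of k))) hcG
    refine ⟨⟨_, (pointEquivClosedPoint Xb.obj.hom ⟨c, hc⟩).2, hfix⟩, ?_⟩
    apply Subtype.ext
    show pointOfClosedPoint Xb.obj.hom _ _ ≫ π = h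
    rw [← hcπ]
    congr 1
    exact congrArg Subtype.val ((pointEquivClosedPoint Xb.obj.hom).symm_apply_apply ⟨c, hc⟩)

include hFapp hπ hF in
theorem card_fixed_eq_card_hom (m : ℕ) (σ : k →+* k) (hσ : ∀ a, σ a = a ^ (Nat.card k₀ ^ m)) :
    Nat.card {w : Xb.obj.left // IsClosed ({w} : Set Xb.obj.left) ∧ sm (fpow F m) w = w} =
      Nat.card {h : Spec (CommRingCat.of k) ⟶ X //
        h ≫ f = Spec.map (CommRingCat.ofHom (algebraMap k₀ k)) ∧ Spec.map (CommRingCat.ofHom σ) ≫ h = h} := by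
  obtain ⟨g, hg⟩ := fixed_to_hom hFapp hπ hF m σ hσ
  exact Nat.card_eq_of_bijective g hg

theorem sigma_ext_of_congr {k₀ k : Type u} [Field k₀] [Field k] [Algebra k₀ k] {X : Scheme.{u}}
    [∀ x : X, Algebra k₀ (X.residueField x)] {P : ∀ x : X, (X.residueField x →ₐ[k₀] k) → Prop}
    {a b : Σ x : X, {θ : X.residueField x →ₐ[k₀] k // P x θ}} (e1 : a.1 = b.1)
    (e2 : CommRingCat.ofHom a.2.1.toRingHom =
      (X.residueFieldCongr e1).hom ≫ CommRingCat.ofHom b.2.1.toRingHom) : a = b := by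
  obtain ⟨x, θ⟩ := a
  obtain ⟨y, θ'⟩ := b
  change x = y at e1
  subst e1
  change CommRingCat.ofHom θ.1.toRingHom =
    (X.residueFieldCongr (rfl : x = x)).hom ≫ CommRingCat.ofHom θ'.1.toRingHom at e2
  have : θ = θ' := Subtype.ext (AlgHom.coe_ringHom_injective (by
    have h := congrArg CommRingCat.Hom.hom e2
    rw [Scheme.residueFieldCongr_refl, Iso.refl_hom] at h
    exact RingHom.ext fun t => RingHom.congr_fun h t))
  rw [this]

omit [IsAlgClosed k] [Finite k₀] in
theorem card_hom_eq_card_sigma (f : X ⟶ Spec (CommRingCat.of k₀)) (m : ℕ) (σ : k →+* k)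
    (hσ : ∀ a, σ a = a ^ (Nat.card k₀ ^ m)) [alg : ∀ x : X, Algebra k₀ (X.residueField x)]
    (halg : ∀ x : X, Spec.map (CommRingCat.ofHom (algebraMap k₀ (X.residueField x))) =
      X.fromSpecResidueField x ≫ f) :
    Nonempty ({h : Spec (CommRingCat.of k) ⟶ X //
        h ≫ f = Spec.map (CommRingCat.ofHom (algebraMap k₀ k)) ∧ Spec.map (CommRingCat.ofHom σ) ≫ h = h} ≃
      (Σ x : X, {θ : X.residueField x →ₐ[k₀] k // ∀ a, θ a ^ (Nat.card k₀ ^ m) = θ a})) := by
  have h1 : ∀ (x : X) (θ : X.residueField x ⟶ CommRingCat.of k),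
      ((Spec.map θ ≫ X.fromSpecResidueField x) ≫ f = Spec.map (CommRingCat.ofHom (algebraMap k₀ k)) ↔
        ∀ c, θ.hom (algebraMap k₀ (X.residueField x) c) = algebraMap k₀ k c) := by
    intro x θ
    rw [Category.assoc, ← halg, ← Spec.map_comp]
    constructor
    · intro h c
      exact RingHom.congr_fun (congrArg CommRingCat.Hom.hom (Spec.map_injective h)) c
    · intro h
      exact congrArg Spec.map (CommRingCat.hom_ext (RingHom.ext h))
  have h2 : ∀ (x : X) (θ : X.residueField x ⟶ CommRingCat.of k),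
      (Spec.map (CommRingCat.ofHom σ) ≫ (Spec.map θ ≫ X.fromSpecResidueField x) =
        Spec.map θ ≫ X.fromSpecResidueField x ↔
        ∀ a, θ.hom a ^ (Nat.card k₀ ^ m) = θ.hom a) := by
    intro x θ
    rw [← Category.assoc, cancel_mono, ← Spec.map_comp]
    constructor
    · intro h a
      rw [← hσ]
      exact RingHom.congr_fun (congrArg CommRingCat.Hom.hom (Spec.map_injective h)) a
    · intro h
      exact congrArg Spec.map (CommRingCat.hom_ext (RingHom.ext fun a => (hσ _).trans (h a)))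
  exact ⟨{
    toFun := fun h =>
      have e := (Scheme.SpecToEquivOfField k X).symm_apply_apply h.1
      ⟨((Scheme.SpecToEquivOfField k X) h.1).1,
        ⟨{ ((Scheme.SpecToEquivOfField k X) h.1).2.hom with
            commutes' := (h1 _ _).mp ((congrArg (· ≫ f) e).trans h.2.1) },
          (h2 _ _).mp ((congrArg (fun t => Spec.map (CommRingCat.ofHom σ) ≫ t) e).trans (h.2.2.trans e.symm))⟩⟩
    invFun := fun p =>
      ⟨(Scheme.SpecToEquivOfField k X).symm ⟨p.1, CommRingCat.ofHom p.2.1.toRingHom⟩,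
        (h1 _ _).mpr p.2.1.commutes, (h2 _ _).mpr p.2.2⟩
    left_inv := fun h => Subtype.ext ((Scheme.SpecToEquivOfField k X).symm_apply_apply h.1)
    right_inv := fun p => by
      obtain ⟨x, θ⟩ := p
      have e := (Scheme.SpecToEquivOfField k X).apply_symm_apply ⟨x, CommRingCat.ofHom θ.1.toRingHom⟩
      rw [Scheme.SpecToEquivOfField_eq_iff] at e
      obtain ⟨e1, e2⟩ := e
      exact sigma_ext_of_congr (P := fun x' (g : X.residueField x' →ₐ[k₀] k) => ∀ a, g a ^ (Nat.card k₀ ^ m) = g a)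
        e1 e2 }⟩

theorem fixed_sigma_equiv (m : ℕ) (hm : m ≠ 0) [alg : ∀ x : X, Algebra k₀ (X.residueField x)] :
    Nonempty ((Σ x : X, {θ : X.residueField x →ₐ[k₀] k // ∀ a, θ a ^ (Nat.card k₀ ^ m) = θ a}) ≃
      Σ x : {x : X // Module.finrank k₀ (X.residueField x) ∈ m.divisors}, (X.residueField x.1 →ₐ[k₀] k)) :=
  ⟨{ toFun := fun p => ⟨⟨p.1, (fixed_hom_iff _ p.2.1 hm).mp p.2.2⟩, p.2.1⟩
     invFun := fun p => ⟨p.1.1, p.2, (fixed_hom_iff _ p.2 hm).mpr p.1.2⟩
     left_inv := fun p => rfl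
     right_inv := fun p => rfl }⟩

theorem card_sigma_algHom {P : Type u} (L : P → Type u) [∀ x, Field (L x)] [∀ x, Algebra k₀ (L x)]
    (hpos : ∀ x, 0 < Module.finrank k₀ (L x)) [Finite (Σ x, (L x →ₐ[k₀] k))] :
    ∃ _ : Fintype P, Nat.card (Σ x, (L x →ₐ[k₀] k)) = ∑ x, Module.finrank k₀ (L x) := by
  haveI hfd : ∀ x, Module.Finite k₀ (L x) := fun x => Module.finite_of_finrank_pos (hpos x)
  haveI : Finite P := Finite.of_surjective (Sigma.fst : (Σ x, (L x →ₐ[k₀] k)) → P)
    fun x => ⟨⟨x, IsAlgClosed.lift⟩, rfl⟩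
  cases nonempty_fintype P
  refine ⟨inferInstance, ?_⟩
  rw [Nat.card_sigma]
  refine Finset.sum_congr rfl fun x _ => ?_
  rw [Nat.card_eq_fintype_card, AlgHom.card]

include hFapp hπ hF in
theorem finite_hom_of_fixed (m : ℕ) (σ : k →+* k) (hσ : ∀ a, σ a = a ^ (Nat.card k₀ ^ m))
    (hfin : {w : Xb.obj.left | IsClosed ({w} : Set Xb.obj.left) ∧ sm (fpow F m) w = w}.Finite) :
    Finite {h : Spec (CommRingCat.of k) ⟶ X //
        h ≫ f = Spec.map (CommRingCat.ofHom (algebraMap k₀ k)) ∧ Spec.map (CommRingCat.ofHom σ) ≫ h = h} := by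
  haveI : Finite {w : Xb.obj.left // IsClosed ({w} : Set Xb.obj.left) ∧ sm (fpow F m) w = w} :=
    hfin.to_subtype
  obtain ⟨g, hg⟩ := fixed_to_hom hFapp hπ hF m σ hσ
  exact Finite.of_surjective g hg.2

include hFapp hπ hF in
/-- The fixed points of the `m`-th power of Frobenius are counted by `Zeta.nPts`. -/
theorem card_fixed [LocallyOfFiniteType f] (m : ℕ) (hm : m ≠ 0)
    (hfin : {w : Xb.obj.left | IsClosed ({w} : Set Xb.obj.left) ∧ sm (fpow F m) w = w}.Finite) :
    Nat.card {w : Xb.obj.left // IsClosed ({w} : Set Xb.obj.left) ∧ sm (fpow F m) w = w} =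
      Zeta.nPts f m := by
  classical
  obtain ⟨σ, hσ⟩ := exists_pow_card_pow_hom k₀ k m
  letI alg : ∀ x : X, Algebra k₀ (X.residueField x) := fun x =>
    (Spec.preimage (X.fromSpecResidueField x ≫ f) : CommRingCat.of k₀ ⟶ X.residueField x).hom.toAlgebra
  have halg : ∀ x : X, Spec.map (CommRingCat.ofHom (algebraMap k₀ (X.residueField x))) =
      X.fromSpecResidueField x ≫ f := fun x => Spec.map_preimage _
  have hdeg : ∀ x : X, EGA4loc.residueDegree f x = Module.finrank k₀ (X.residueField x) := fun x =>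
    residueDegree_base_eq f x (Spec.preimage (X.fromSpecResidueField x ≫ f)) (Spec.map_preimage _)
  obtain ⟨e1⟩ := card_hom_eq_card_sigma f m σ hσ halg
  obtain ⟨e2⟩ := fixed_sigma_equiv (k₀ := k₀) (k := k) (X := X) m hm
  haveI : Finite {w : Xb.obj.left // IsClosed ({w} : Set Xb.obj.left) ∧ sm (fpow F m) w = w} :=
    hfin.to_subtype
  have hcardA := card_fixed_eq_card_hom hFapp hπ hF m σ hσ
  rw [hcardA, Nat.card_congr (e1.trans e2)]
  haveI : Finite (Σ x : {x : X // Module.finrank k₀ (X.residueField x) ∈ m.divisors},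
      (X.residueField x.1 →ₐ[k₀] k)) := by
    refine @Finite.of_equiv _ _ (finite_hom_of_fixed hFapp hπ hF m σ hσ hfin) (e1.trans e2)
  obtain ⟨_, hsum⟩ := card_sigma_algHom (k₀ := k₀) (k := k)
    (fun x : {x : X // Module.finrank k₀ (X.residueField x) ∈ m.divisors} => X.residueField x.1)
    (fun x => Nat.pos_of_mem_divisors x.2)
  rw [hsum, ← Finset.sum_fiberwise_of_maps_to (t := m.divisors)
    (g := fun x : {x : X // Module.finrank k₀ (X.residueField x) ∈ m.divisors} =>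
      Module.finrank k₀ (X.residueField x.1)) (fun x _ => x.2)]
  unfold Zeta.nPts Zeta.degCount
  refine Finset.sum_congr rfl fun e he => ?_
  rw [Finset.sum_congr rfl fun x hx => (Finset.mem_filter.mp hx).2, Finset.sum_const, smul_eq_mul,
    mul_comm, ← Fintype.card_subtype, ← Nat.card_eq_fintype_card]
  congr 1
  refine Nat.card_congr
    { toFun := fun x => ⟨x.1.1, isClosed_of_finite_residueField (f := f) x.1.1 (by
          rw [hdeg]; exact (Nat.pos_of_mem_divisors x.1.2).ne'), (hdeg _).trans x.2⟩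
      invFun := fun x => ⟨⟨x.1, by
          rw [← hdeg, x.2.2]; exact he⟩, (hdeg _).symm.trans x.2.2⟩
      left_inv := fun x => rfl
      right_inv := fun x => rfl }

end Points

end Groth.Agent.H27Weil
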