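import Groth.Agent.H27Weil.Dimension
import Mathlib

/-!
# The class of a graph and the Lefschetz trace formula
-/

set_option autoImplicit false
universe u v w

noncomputable section

open CategoryTheory AlgebraicGeometry WeilCoh TopologicalSpace TensorProduct

namespace Groth.Agent.H27Weil

section General

variable {k : Type u} [Field k] {P : ObjectProperty (Over (Spec (CommRingCat.of k)))}
variable {K : Type v} [Field K] (T : TheoryOn.{u, v, w} k P K)

/-- The sign of graded commutativity. -/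
abbrev sgn (K : Type v) [Field K] (i j : ℤ) : K := (-1) ^ (i.natAbs * j.natAbs)

theorem sgn_eq (i j : ℤ) : sgn K i j = if Even i ∨ Even j then 1 else -1 := by
  unfold sgn
  by_cases h : Even i ∨ Even j
  · rw [if_pos h]
    refine Even.neg_one_pow ?_
    rcases h with h | h
    · exact (Int.natAbs_even.mpr h).mul_right _
    · exact (Int.natAbs_even.mpr h).mul_left _
  · rw [if_neg h]
    rw [not_or, Int.not_even_iff_odd, Int.not_even_iff_odd] at h
    exact ((Int.natAbs_odd.mpr h.1).mul (Int.natAbs_odd.mpr h.2)).neg_one_pow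

theorem sgn_mul_self (i j : ℤ) : sgn K i j * sgn K i j = 1 := by
  rw [sgn, ← pow_add]; exact (Even.add_self _).neg_one_pow

theorem sgn_self_mul {r s : ℤ} {d : ℕ} (h : r + s = 2 * (d : ℤ)) :
    sgn K s s * sgn K r s = 1 := by
  have hpar : Even r ↔ Even s := by
    rw [← Int.even_add, h]; exact even_two_mul _
  rw [sgn_eq, sgn_eq]
  by_cases hs : Even s
  · simp [hs]
  · simp [hs, hpar.not.mpr hs]

/-- Swapping factors under a trace. -/
theorem tr_comm (X : P.FullSubcategory) {i j : ℤ} {a b : T.H X} (ha : a ∈ T.gr X i) (hb : b ∈ T.gr X j) :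
    T.tr X (a * b) = sgn K i j * T.tr X (b * a) := by
  rw [T.gradedComm X i j a b ha hb, map_smul, smul_eq_mul]

/-- Every class is a combination of homogeneous classes. -/
theorem hom_induction (X : P.FullSubcategory) {C : T.H X → Prop} (hom : ∀ i, ∀ a ∈ T.gr X i, C a)
    (add : ∀ a b, C a → C b → C (a + b)) (a : T.H X) : C a := by
  have ha : a ∈ (⨆ i, T.gr X i) := by
    rw [(T.decomp X).submodule_iSup_eq_top]; trivial
  exact Submodule.iSup_induction (T.gr X) (motive := C) ha hom (hom 0 0 (zero_mem _)) add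

/-- Two functionals agreeing on external products agree. -/
theorem kunneth_ext {X Y Q : P.FullSubcategory} (p : Q ⟶ X) (q : Q ⟶ Y) (hQ : IsProd p q)
    {L L' : T.H Q →ₗ[K] K}
    (h : ∀ i j, ∀ a ∈ T.gr X i, ∀ b ∈ T.gr Y j, L (T.pull p a * T.pull q b) = L' (T.pull p a * T.pull q b))
    (z : T.H Q) : L z = L' z := by
  obtain ⟨t, rfl⟩ := (T.kunneth p q hQ).2 z
  induction t using TensorProduct.induction_on with
  | zero => simp
  | add x y hx hy => simp only [map_add, hx, hy]
  | tmul a b =>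
    change L (T.pull p a * T.pull q b) = L' (T.pull p a * T.pull q b)
    induction a using hom_induction T X with
    | hom i a ha =>
      induction b using hom_induction T Y with
      | hom j b hb => exact h i j a ha b hb
      | add b b' h1 h2 => simp only [map_add, mul_add, h1, h2]
    | add a a' h1 h2 => simp only [map_add, add_mul, h1, h2]

/-- Dual bases for Poincaré duality exist. -/
theorem exists_dualBasis (X : P.FullSubcategory) :
    ∃ (n : ℤ → ℕ) (e : ∀ r, Module.Basis (Fin (n r)) K ↥(T.gr X r))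
      (f : ∀ r, Fin (n r) → ↥(T.gr X (2 * (WeilCoh.dim X.obj.left : ℤ) - r))),
      ∀ r i l, T.tr X ((f r l : T.H X) * (e r i : T.H X)) = if i = l then 1 else 0 := by
  classical
  refine ⟨fun r => Module.finrank K ↥(T.gr X r), fun r => Module.finBasis K _, fun r l =>
    haveI := T.duality X (2 * (WeilCoh.dim X.obj.left : ℤ) - r) r (by omega)
    (pairing K (T.gr X (2 * (WeilCoh.dim X.obj.left : ℤ) - r)) (T.gr X r) (T.tr X)).toPerfPair.symm
      ((Module.finBasis K ↥(T.gr X r)).coord l), fun r i l => ?_⟩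
  haveI := T.duality X (2 * (WeilCoh.dim X.obj.left : ℤ) - r) r (by omega)
  have := LinearMap.congr_fun (LinearMap.apply_symm_toPerfPair_self
    (pairing K (T.gr X (2 * (WeilCoh.dim X.obj.left : ℤ) - r)) (T.gr X r) (T.tr X))
    ((Module.finBasis K ↥(T.gr X r)).coord l)) (Module.finBasis K ↥(T.gr X r) i)
  refine Eq.trans this ?_
  rw [Module.Basis.coord_apply, Module.Basis.repr_self, Finsupp.single_apply]

theorem repr_eq_tr (X : P.FullSubcategory) {r j : ℤ} {ι : Type*} [Fintype ι] [DecidableEq ι]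
    (e : Module.Basis ι K ↥(T.gr X r)) (f : ι → ↥(T.gr X j))
    (hef : ∀ i l, T.tr X ((f l : T.H X) * (e i : T.H X)) = if i = l then 1 else 0)
    (c : ↥(T.gr X r)) (l : ι) : e.repr c l = T.tr X ((f l : T.H X) * c) := by
  conv_rhs => rw [← e.sum_repr c]
  simp only [AddSubmonoidClass.coe_finsetSum, SetLike.val_smul, Finset.mul_sum, mul_smul_comm,
    map_sum, map_smul, hef, smul_eq_mul, mul_ite, mul_one, mul_zero, Finset.sum_ite_eq', Finset.mem_univ,
    if_true]

end General

variable {k : Type u} [Field k] [IsAlgClosed k] {K : Type v} [Field K] [CharZero K] (T : Theory.{u, v} k K)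

local notation "H" => fun X => T.H X

include T in
theorem codim_graph {X Q : Var k} (p q : Q ⟶ X) (hQ : IsProd p q) (j : X ⟶ Q) (hjp : j ≫ p = 𝟙 X) :
    (codim Q.obj.left (sm j (genericPoint ↥X.obj.left)) : ℤ) = WeilCoh.dim X.obj.left := by
  have := dim_prod_eq T p q hQ
  rw [codim_cast, pdim_section hjp, pdim_genericPoint, this]; push_cast; ring

/-- The class of the graph of `φ` in terms of dual bases. -/
theorem cl_graph (X Q : Var k) (φ : X ⟶ X) (p q : Q ⟶ X) (hQ : IsProd p q) (j : X ⟶ Q)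
    (hjp : j ≫ p = 𝟙 X) (hjq : j ≫ q = φ)
    (ι : ℕ → Type) [∀ r, Fintype (ι r)] [∀ r, DecidableEq (ι r)]
    (e : (r : ℕ) → Module.Basis (ι r) K ↥(T.gr X (r : ℤ)))
    (f : (r : ℕ) → ι r → ↥(T.gr X (2 * (WeilCoh.dim X.obj.left : ℤ) - r)))
    (hef : ∀ r, r ≤ 2 * WeilCoh.dim X.obj.left → ∀ i l : ι r,
      T.tr X ((f r l : T.H X) * (e r i : T.H X)) = if i = l then 1 else 0) :
    T.cl Q (sm j (genericPoint ↥X.obj.left)) =
      ∑ r ∈ Finset.range (2 * WeilCoh.dim X.obj.left + 1), ∑ i : ι r,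
        T.pull p (T.pull φ (e r i : T.H X)) * T.pull q (f r i : T.H X) := by
  have hd : WeilCoh.dim Q.obj.left = WeilCoh.dim X.obj.left + WeilCoh.dim X.obj.left := dim_prod_eq T p q hQ
  have hmemR : ∀ (r : ℕ) (i : ι r), T.pull p (T.pull φ (e r i : T.H X)) * T.pull q (f r i : T.H X) ∈
      T.gr Q (2 * (WeilCoh.dim X.obj.left : ℤ)) := fun r i => by
    have := SetLike.mul_mem_graded (A := T.gr Q)
      (T.pull_mem p _ _ (T.pull_mem φ _ _ (e r i).2)) (T.pull_mem q _ _ (f r i).2)
    convert this using 2; ring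
  refine eq_of_tr T Q (i := 2 * (WeilCoh.dim X.obj.left : ℤ)) (j := 2 * (WeilCoh.dim X.obj.left : ℤ)) (by rw [hd]; push_cast; ring) ?_
    (Submodule.sum_mem _ fun r _ => Submodule.sum_mem _ fun i _ => hmemR r i) fun b _ => ?_
  · have := T.cl_mem Q (sm j (genericPoint ↥X.obj.left))
    rwa [codim_graph T p q hQ j hjp] at this
  refine kunneth_ext T p q hQ
    (L := T.tr Q ∘ₗ LinearMap.mulLeft K (T.cl Q (sm j (genericPoint ↥X.obj.left))))
    (L' := T.tr Q ∘ₗ LinearMap.mulLeft K (∑ r ∈ Finset.range (2 * WeilCoh.dim X.obj.left + 1), ∑ i : ι r,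
      T.pull p (T.pull φ (e r i : T.H X)) * T.pull q (f r i : T.H X))) ?_ b
  intro s t a ha c hc
  simp only [LinearMap.comp_apply, LinearMap.mulLeft_apply]
  rw [tr_cl_section T hjp _ (SetLike.mul_mem_graded (A := T.gr Q) (T.pull_mem p _ a ha) (T.pull_mem q _ c hc)),
    cl_genericPoint, one_mul, map_mul (T.pull j), ← AlgHom.comp_apply (T.pull j) (T.pull q),
    ← AlgHom.comp_apply (T.pull j) (T.pull p), ← T.pull_comp, ← T.pull_comp, hjq, hjp, T.pull_id,
    AlgHom.id_apply, Finset.sum_mul, map_sum]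
  -- each summand
  have hterm : ∀ (r : ℕ) (i : ι r),
      T.tr Q (T.pull p (T.pull φ (e r i : T.H X)) * T.pull q (f r i : T.H X) * (T.pull p a * T.pull q c)) =
        sgn K (2 * (WeilCoh.dim X.obj.left : ℤ) - r) s * (T.tr X (T.pull φ (e r i : T.H X) * a) * T.tr X ((f r i : T.H X) * c)) := by
    intro r i
    have he := T.pull_mem φ _ _ (e r i).2
    have hsw : T.pull q (f r i : T.H X) * T.pull p a =
        sgn K (2 * (WeilCoh.dim X.obj.left : ℤ) - r) s • (T.pull p a * T.pull q (f r i : T.H X)) :=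
      T.gradedComm Q _ _ _ _ (T.pull_mem q _ _ (f r i).2) (T.pull_mem p _ a ha)
    rw [show T.pull p (T.pull φ (e r i : T.H X)) * T.pull q (f r i : T.H X) * (T.pull p a * T.pull q c) =
        T.pull p (T.pull φ (e r i : T.H X)) * (T.pull q (f r i : T.H X) * T.pull p a) * T.pull q c by
      simp only [mul_assoc], hsw]
    rw [mul_smul_comm, smul_mul_assoc, map_smul, smul_eq_mul, ← mul_assoc (T.pull p _),
      mul_assoc _ _ (T.pull q c), ← map_mul, ← map_mul,
      tr_prod_apply T p q hQ (SetLike.mul_mem_graded (A := T.gr X) he ha)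
        (SetLike.mul_mem_graded (A := T.gr X) (f r i).2 hc)]
  simp only [Finset.sum_mul, map_sum, hterm]
  by_cases ht : 0 ≤ t ∧ t ≤ 2 * (WeilCoh.dim X.obj.left : ℤ)
  swap
  · have hc0 : c = 0 := eq_bot_of_degree T X (by omega) hc
    simp [hc0]
  obtain ⟨t, rfl⟩ : ∃ m : ℕ, t = (m : ℤ) := ⟨t.toNat, (Int.toNat_of_nonneg ht.1).symm⟩
  rw [Finset.sum_eq_single t]
  · by_cases hst : s + t = 2 * (WeilCoh.dim X.obj.left : ℤ)
    · have hs : 2 * (WeilCoh.dim X.obj.left : ℤ) - t = s := by omega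
      simp only [hs]
      have hrepr := fun i => repr_eq_tr T X (e t) (f t) (hef t (by omega)) ⟨c, hc⟩ i
      have hsum : ∑ i, T.tr X (T.pull φ (e t i : T.H X) * a) * T.tr X ((f t i : T.H X) * c) =
          T.tr X (T.pull φ c * a) := by
        conv_rhs => rw [show c = ((∑ i, (e t).repr ⟨c, hc⟩ i • e t i : ↥(T.gr X t)) : T.H X) by
          rw [(e t).sum_repr]]
        simp only [AddSubmonoidClass.coe_finsetSum, SetLike.val_smul, map_sum, map_smul, Finset.sum_mul,
          smul_mul_assoc, smul_eq_mul, hrepr]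
        exact Finset.sum_congr rfl fun i _ => mul_comm _ _
      rw [← Finset.mul_sum, hsum, tr_comm T X (T.pull_mem φ _ c hc) ha, ← mul_assoc,
        sgn_self_mul (show (t : ℤ) + s = 2 * (WeilCoh.dim X.obj.left : ℤ) by omega), one_mul]
    · have h0 := T.tr_vanish X _ _ (SetLike.mul_mem_graded (A := T.gr X) ha (T.pull_mem φ _ c hc)) hst
      rw [h0, eq_comm]
      refine Finset.sum_eq_zero fun i _ => ?_
      rw [T.tr_vanish X _ _ (SetLike.mul_mem_graded (A := T.gr X) (T.pull_mem φ _ _ (e t i).2) ha)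
        (show (t : ℤ) + s ≠ 2 * (WeilCoh.dim X.obj.left : ℤ) by omega), zero_mul, mul_zero]
  · intro r _ hr
    refine Finset.sum_eq_zero fun i _ => ?_
    rw [T.tr_vanish X _ _ (SetLike.mul_mem_graded (A := T.gr X) (f r i).2 hc)
      (show 2 * (WeilCoh.dim X.obj.left : ℤ) - r + t ≠ 2 * (WeilCoh.dim X.obj.left : ℤ) by omega), mul_zero, mul_zero]
  · intro h
    exact absurd (Finset.mem_range.mpr (by omega)) h

/-- The Lefschetz trace formula. -/
theorem lefschetz (X Q : Var k) (φ : X ⟶ X) (p q : Q ⟶ X) (hQ : IsProd p q) (j dg : X ⟶ Q)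
    (hjp : j ≫ p = 𝟙 X) (hjq : j ≫ q = φ) (hdp : dg ≫ p = 𝟙 X) (hdq : dg ≫ q = 𝟙 X) :
    T.tr Q (T.cl Q (sm j (genericPoint ↥X.obj.left)) * T.cl Q (sm dg (genericPoint ↥X.obj.left))) =
      ∑ i ∈ Finset.range (2 * WeilCoh.dim X.obj.left + 1),
        (-1 : K) ^ i * LinearMap.trace K ↥(T.gr X (i : ℤ)) (T.pullDeg φ (i : ℤ)) := by
  classical
  set n := WeilCoh.dim X.obj.left with hn
  obtain ⟨m, e, f, hef⟩ := exists_dualBasis T X
  rw [tr_comm T Q (T.cl_mem Q _) (T.cl_mem Q _), tr_cl_section T hdp _ (T.cl_mem Q _), cl_genericPoint,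
    one_mul, cl_graph T X Q φ p q hQ j hjp hjq (fun r => Fin (m r)) (fun r => e r) (fun r => f r)
      (fun r _ => hef r)]
  rw [show sgn K (2 * (codim Q.obj.left (sm j (genericPoint ↥X.obj.left)) : ℤ))
      (2 * (codim Q.obj.left (sm dg (genericPoint ↥X.obj.left)) : ℤ)) = 1 by
    rw [sgn_eq, if_pos (Or.inl (even_two_mul _))], one_mul]
  simp only [map_sum]
  refine Finset.sum_congr rfl fun r hr => ?_
  rw [LinearMap.trace_eq_matrix_trace K (e r), Matrix.trace, Finset.mul_sum]
  refine Finset.sum_congr rfl fun i _ => ?_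
  rw [map_mul (T.pull dg), ← AlgHom.comp_apply (T.pull dg) (T.pull q), ← AlgHom.comp_apply (T.pull dg) (T.pull p),
    ← T.pull_comp, ← T.pull_comp, hdq, hdp, T.pull_id, AlgHom.id_apply, AlgHom.id_apply,
    tr_comm T X (T.pull_mem φ _ _ (e r i).2) (f r i).2, Matrix.diag_apply, LinearMap.toMatrix_apply,
    repr_eq_tr T X (e r) (f r) (hef r) (T.pullDeg φ r (e r i)) i]
  congr 1
  rw [sgn_eq]
  have hr' : r < 2 * n + 1 := Finset.mem_range.mp hr
  rcases Nat.even_or_odd r with h | h
  · rw [if_pos (Or.inl (by exact_mod_cast h)), h.neg_one_pow]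
  · rw [if_neg, h.neg_one_pow]
    have h' : ¬ Even ((r : ℤ)) := by
      rw [Int.not_even_iff_odd]; exact_mod_cast h
    simp only [not_or]
    exact ⟨h', by rw [Int.even_sub]; simp [even_two_mul, h']⟩

end Groth.Agent.H27Weil
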