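import Groth.Agent.H27Weil.Frobenius
import Groth.Agent.H27Weil.Trace
import Mathlib

/-!
# The functional equation in the field of rational functions
-/

set_option autoImplicit false
universe u v w

noncomputable section

open CategoryTheory AlgebraicGeometry WeilCoh TopologicalSpace Polynomial

namespace Groth.Agent.H27Weil

theorem alt_sum_split {M : Type*} [CommRing M] (g : ℕ → M) (n : ℕ) :
    ∑ i ∈ Finset.range (2 * n + 1), (-1 : M) ^ i * g i =
      ∑ i ∈ Finset.range (n + 1), g (2 * i) - ∑ i ∈ Finset.range n, g (2 * i + 1) := by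
  induction n with
  | zero => simp
  | succ n ih =>
    rw [show 2 * (n + 1) + 1 = 2 * n + 1 + 1 + 1 by ring, Finset.sum_range_succ, Finset.sum_range_succ, ih,
      Finset.sum_range_succ _ (n + 1), Finset.sum_range_succ (fun i => g (2 * i + 1))]
    have h1 : (-1 : M) ^ (2 * n + 1) = -1 := by rw [pow_succ, pow_mul]; simp
    have h2 : (-1 : M) ^ (2 * n + 1 + 1) = 1 := by rw [pow_succ, h1]; simp
    rw [h1, h2, show 2 * n + 1 + 1 = 2 * (n + 1) by ring]
    ring

theorem even_sum_of_symm (B : ℕ → ℕ) (n : ℕ) (hs : ∀ i, i ≤ 2 * n → B (2 * n - i) = B i)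
    (hn : Even (B n)) : Even (∑ i ∈ Finset.range (2 * n + 1), B i) := by
  rw [show 2 * n + 1 = n + 1 + n by ring, Finset.sum_range_add, Finset.sum_range_succ]
  have h : ∑ x ∈ Finset.range n, B (n + 1 + x) = ∑ x ∈ Finset.range n, B x := by
    rw [← Finset.sum_range_reflect B n]
    refine Finset.sum_congr rfl fun x hx => ?_
    rw [Finset.mem_range] at hx
    rw [← hs (n - 1 - x) (by omega)]
    congr 1
    omega
  rw [h, add_right_comm, ← two_mul]
  exact (even_two_mul _).add hn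

section Parity

variable {k : Type u} [Field k] {P : ObjectProperty (Over (Spec (CommRingCat.of k)))}
variable {K : Type v} [Field K] [CharZero K] (T : TheoryOn.{u, v, w} k P K)

/-- The middle Betti number is even in odd dimension. -/
theorem even_middle (X : P.FullSubcategory) (hn : Odd (WeilCoh.dim X.obj.left)) :
    Even (Module.finrank K ↥(T.gr X (WeilCoh.dim X.obj.left : ℤ))) := by
  classical
  set n := WeilCoh.dim X.obj.left
  haveI := T.duality X (n : ℤ) (n : ℤ) (by ring)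
  set B := pairing K (T.gr X (n : ℤ)) (T.gr X (n : ℤ)) (T.tr X)
  set b := Module.finBasis K ↥(T.gr X (n : ℤ))
  set M := LinearMap.toMatrix₂ b b B with hM
  have hskew : M.transpose = -M := by
    ext i j
    rw [Matrix.transpose_apply, Matrix.neg_apply, hM, LinearMap.toMatrix₂_apply, LinearMap.toMatrix₂_apply]
    show T.tr X ((b j : T.H X) * (b i : T.H X)) = -T.tr X ((b i : T.H X) * (b j : T.H X))
    rw [tr_comm T X (b j).2 (b i).2, sgn_eq, if_neg, neg_one_mul]
    rw [not_or, Int.not_even_iff_odd]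
    exact ⟨by exact_mod_cast hn, by exact_mod_cast hn⟩
  have hdet : M.det ≠ 0 := by
    intro h0
    obtain ⟨v, hv, hMv⟩ := Matrix.exists_mulVec_eq_zero_iff.mpr h0
    apply hv
    set w := b.equivFun.symm v with hw
    have hz : w = 0 := by
      apply (LinearMap.IsPerfPair.bijective_right B).1
      rw [map_zero]
      refine b.ext fun i => ?_
      have := congrFun hMv i
      rw [Matrix.mulVec, dotProduct] at this
      simp only [hM, LinearMap.toMatrix₂_apply, Pi.zero_apply] at this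
      rw [LinearMap.flip_apply, LinearMap.zero_apply, hw, Module.Basis.equivFun_symm_apply, map_sum]
      simp only [map_smul, smul_eq_mul]
      rw [← this]
      exact Finset.sum_congr rfl fun j _ => mul_comm _ _
    rw [hw] at hz
    have := congrArg b.equivFun hz
    rwa [LinearEquiv.apply_symm_apply, map_zero] at this
  have h := congrArg Matrix.det hskew
  rw [Matrix.det_transpose, Matrix.det_neg, Fintype.card_fin] at h
  by_contra hne
  rw [(Nat.not_even_iff_odd.mp hne).neg_one_pow] at h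
  exact hdet (by linear_combination h / 2)

end Parity

theorem aeval_inv_X {L : Type*} [Field L] (p : L[X]) :
    aeval ((RatFunc.X : RatFunc L)⁻¹) p * RatFunc.X ^ p.natDegree = algebraMap L[X] (RatFunc L) p.reverse := by
  rw [← RatFunc.aeval_X_left_eq_algebraMap, Polynomial.aeval_def, Polynomial.aeval_def]
  have : Invertible (RatFunc.X : RatFunc L) := invertibleOfNonzero RatFunc.X_ne_zero
  have h := Polynomial.eval₂_reverse_mul_pow (algebraMap L (RatFunc L)) (RatFunc.X : RatFunc L)⁻¹ p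
  haveI := invertibleOfNonzero (inv_ne_zero (RatFunc.X_ne_zero (K := L)))
  have h' := Polynomial.eval₂_reverse_mul_pow (algebraMap L (RatFunc L)) ((RatFunc.X : RatFunc L)⁻¹) p
  rw [invOf_eq_inv, inv_inv] at h'
  rw [← h', mul_assoc, ← mul_pow, inv_mul_cancel₀ RatFunc.X_ne_zero, one_pow, mul_one]

section Frob

variable {k₀ : Type u} [Field k₀] [Finite k₀] {k : Type u} [Field k] [IsAlgClosed k] [Algebra k₀ k]
  {X : Scheme.{u}} {f : X ⟶ Spec (CommRingCat.of k₀)}
  {FX : X ⟶ X} {hle : ∀ U : X.Opens, U ≤ FX ⁻¹ᵁ U}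
  (hFapp : ∀ (U : X.Opens) (s : Γ(X, U)), (FX.appLE U U (hle U)).hom s = s ^ Nat.card k₀)
  {Xb : Var k} {π : Xb.obj.left ⟶ X}
  (hπ : IsPullback π Xb.obj.hom f (Spec.map (CommRingCat.ofHom (algebraMap k₀ k))))
  {F : Xb ⟶ Xb} (hF : WeilCoh.sm F ≫ π = π ≫ FX)
  {K : Type v} [Field K] [CharZero K] (T : Theory.{u, v} k K)

include hFapp hπ hF

theorem det_frob_ne_zero (i : ℤ) : LinearMap.det (T.pullDeg F i) ≠ 0 := fun h => by
  have := det_mul_det_frob hFapp hπ hF T i
  rw [h, mul_zero] at this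
  exact pow_ne_zero _ (Nat.cast_ne_zero.mpr Nat.card_pos.ne') this.symm

omit hFapp hπ hF in
theorem finrank_symm (i j : ℤ) (h : i + j = 2 * (WeilCoh.dim Xb.obj.left : ℤ)) :
    Module.finrank K ↥(T.gr Xb j) = Module.finrank K ↥(T.gr Xb i) := by
  haveI := T.duality Xb i j h
  exact H27Zeta.finrank_eq_of_pairing (pairing K (T.gr Xb i) (T.gr Xb j) (T.tr Xb))

theorem aeval_reverse_frob (j j' : ℤ) (h : j' + j = 2 * (WeilCoh.dim Xb.obj.left : ℤ)) :
    aeval ((RatFunc.X : RatFunc K)⁻¹ * RatFunc.C ((Nat.card k₀ : K) ^ WeilCoh.dim Xb.obj.left)⁻¹)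
        (LinearMap.charpoly (T.pullDeg F j)).reverse =
      (-1) ^ Module.finrank K ↥(T.gr Xb j') * (RatFunc.C (LinearMap.det (T.pullDeg F j')))⁻¹ *
        (RatFunc.X ^ Module.finrank K ↥(T.gr Xb j'))⁻¹ *
        algebraMap (Polynomial K) (RatFunc K) (LinearMap.charpoly (T.pullDeg F j')).reverse := by
  set c := (Nat.card k₀ : K) ^ WeilCoh.dim Xb.obj.left with hc'
  have hc : c ≠ 0 := pow_ne_zero _ (Nat.cast_ne_zero.mpr Nat.card_pos.ne')
  obtain rfl : j = 2 * (WeilCoh.dim Xb.obj.left : ℤ) - j' := by omega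
  have h1 := congrArg (aeval ((RatFunc.X : RatFunc K)⁻¹ * RatFunc.C c⁻¹)) (functional_eq_frob hFapp hπ hF T j')
  rw [map_smul, map_mul, map_pow, map_neg, map_one, Polynomial.aeval_comp, map_mul, aeval_C, aeval_X,
    Algebra.smul_def, RatFunc.algebraMap_eq_C] at h1
  have hx : RatFunc.C c * ((RatFunc.X : RatFunc K)⁻¹ * RatFunc.C c⁻¹) = RatFunc.X⁻¹ := by
    rw [mul_left_comm, ← map_mul, mul_inv_cancel₀ hc, map_one, mul_one]
  rw [← hc', hx] at h1
  have h2 := aeval_inv_X (LinearMap.charpoly (T.pullDeg F j'))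
  rw [LinearMap.charpoly_natDegree] at h2
  have hd : RatFunc.C (LinearMap.det (T.pullDeg F j')) ≠ 0 := by
    rw [Ne, map_eq_zero]; exact det_frob_ne_zero hFapp hπ hF T j'
  have hX : (RatFunc.X : RatFunc K) ^ Module.finrank K ↥(T.gr Xb j') ≠ 0 := pow_ne_zero _ RatFunc.X_ne_zero
  rw [← h2]
  generalize aeval ((RatFunc.X : RatFunc K)⁻¹ * RatFunc.C c⁻¹)
    (LinearMap.charpoly (T.pullDeg F (2 * (WeilCoh.dim Xb.obj.left : ℤ) - j'))).reverse = A at h1 ⊢
  generalize aeval ((RatFunc.X : RatFunc K)⁻¹) (LinearMap.charpoly (T.pullDeg F j')) = A' at h1 ⊢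
  field_simp
  rw [mul_comm]
  linear_combination h1

theorem functional_equation :
    ∃ ε : K, (ε = 1 ∨ ε = -1) ∧
      Polynomial.aeval ((RatFunc.X : RatFunc K)⁻¹ * RatFunc.C ((Nat.card k₀ : K) ^ WeilCoh.dim Xb.obj.left)⁻¹)
          (∏ i ∈ Finset.range (WeilCoh.dim Xb.obj.left),
            (LinearMap.charpoly (T.pullDeg F ((2 * i + 1 : ℕ) : ℤ))).reverse) /
        Polynomial.aeval ((RatFunc.X : RatFunc K)⁻¹ * RatFunc.C ((Nat.card k₀ : K) ^ WeilCoh.dim Xb.obj.left)⁻¹)
          (∏ i ∈ Finset.range (WeilCoh.dim Xb.obj.left + 1),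
            (LinearMap.charpoly (T.pullDeg F ((2 * i : ℕ) : ℤ))).reverse) =
      RatFunc.C ε * RatFunc.C (Nat.card k₀ : K) ^ ((WeilCoh.dim Xb.obj.left : ℤ) * (∑ i ∈ Finset.range (2 * WeilCoh.dim Xb.obj.left + 1), (-1 : ℤ) ^ i * (Module.finrank K ↥(T.gr Xb (i : ℤ)) : ℤ)) / 2) *
        (RatFunc.X : RatFunc K) ^ (∑ i ∈ Finset.range (2 * WeilCoh.dim Xb.obj.left + 1), (-1 : ℤ) ^ i * (Module.finrank K ↥(T.gr Xb (i : ℤ)) : ℤ)) *
        (algebraMap (Polynomial K) (RatFunc K)
          (∏ i ∈ Finset.range (WeilCoh.dim Xb.obj.left),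
            (LinearMap.charpoly (T.pullDeg F ((2 * i + 1 : ℕ) : ℤ))).reverse) /
         algebraMap (Polynomial K) (RatFunc K)
          (∏ i ∈ Finset.range (WeilCoh.dim Xb.obj.left + 1),
            (LinearMap.charpoly (T.pullDeg F ((2 * i : ℕ) : ℤ))).reverse)) := by
  set n := WeilCoh.dim Xb.obj.left with hn
  set q : K := (Nat.card k₀ : K)
  have hq : q ≠ 0 := Nat.cast_ne_zero.mpr Nat.card_pos.ne'
  let B : ℕ → ℕ := fun i => Module.finrank K ↥(T.gr Xb (i : ℤ))
  let D : ℕ → K := fun i => LinearMap.det (T.pullDeg F (i : ℤ))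
  let Q : ℕ → RatFunc K := fun i =>
    algebraMap (Polynomial K) (RatFunc K) (LinearMap.charpoly (T.pullDeg F (i : ℤ))).reverse
  set a := (RatFunc.X : RatFunc K)⁻¹ * RatFunc.C (q ^ n)⁻¹ with ha
  let g : ℕ → RatFunc K := fun i => (-1) ^ B i * (RatFunc.C (D i))⁻¹ * (RatFunc.X ^ B i)⁻¹ * Q i
  have hterm : ∀ j j', j' + j = 2 * n →
      aeval a (LinearMap.charpoly (T.pullDeg F (j : ℤ))).reverse = g j' := fun j j' h =>
    aeval_reverse_frob hFapp hπ hF T (j : ℤ) (j' : ℤ) (by exact_mod_cast h)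
  have hodd : aeval a (∏ i ∈ Finset.range n,
      (LinearMap.charpoly (T.pullDeg F ((2 * i + 1 : ℕ) : ℤ))).reverse) = ∏ i ∈ Finset.range n, g (2 * i + 1) := by
    rw [map_prod, ← Finset.prod_range_reflect (fun i => g (2 * i + 1)) n]
    refine Finset.prod_congr rfl fun i hi => hterm _ _ ?_
    rw [Finset.mem_range] at hi; omega
  have heven : aeval a (∏ i ∈ Finset.range (n + 1),
      (LinearMap.charpoly (T.pullDeg F ((2 * i : ℕ) : ℤ))).reverse) = ∏ i ∈ Finset.range (n + 1), g (2 * i) := by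
    rw [map_prod, ← Finset.prod_range_reflect (fun i => g (2 * i)) (n + 1)]
    refine Finset.prod_congr rfl fun i hi => hterm _ _ ?_
    rw [Finset.mem_range] at hi; omega
  set Ao := ∑ i ∈ Finset.range n, B (2 * i + 1)
  set Ae := ∑ i ∈ Finset.range (n + 1), B (2 * i)
  set Do := ∏ i ∈ Finset.range n, D (2 * i + 1) with hDo
  set De := ∏ i ∈ Finset.range (n + 1), D (2 * i) with hDe
  have hE : ∑ i ∈ Finset.range (2 * n + 1), (-1 : ℤ) ^ i * (Module.finrank K ↥(T.gr Xb (i : ℤ)) : ℤ) =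
      (Ae : ℤ) - Ao := by
    have := alt_sum_split (fun i => (B i : ℤ)) n
    simpa [Ao, Ae, B] using this
  rw [hE]
  have hdd : ∀ j j', j' + j = 2 * n → D j * D j' = q ^ (n * B j) := fun j j' h => by
    have := det_mul_det_frob hFapp hπ hF T (j : ℤ)
    rw [show 2 * (n : ℤ) - j = j' by omega] at this
    rw [mul_comm]; exact this
  have hDe2 : De * De = q ^ (n * Ae) := by
    rw [hDe]
    nth_rw 2 [← Finset.prod_range_reflect (fun i => D (2 * i)) (n + 1)]
    rw [← Finset.prod_mul_distrib, Finset.mul_sum, ← Finset.prod_pow_eq_pow_sum]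
    refine Finset.prod_congr rfl fun i hi => hdd _ _ ?_
    rw [Finset.mem_range] at hi; omega
  have hDo2 : Do * Do = q ^ (n * Ao) := by
    rw [hDo]
    nth_rw 2 [← Finset.prod_range_reflect (fun i => D (2 * i + 1)) n]
    rw [← Finset.prod_mul_distrib, Finset.mul_sum, ← Finset.prod_pow_eq_pow_sum]
    refine Finset.prod_congr rfl fun i hi => hdd _ _ ?_
    rw [Finset.mem_range] at hi; omega
  have hpar : ∃ m : ℤ, (n : ℤ) * ((Ae : ℤ) - Ao) = 2 * m := by
    rcases Nat.even_or_odd n with he | ho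
    · obtain ⟨m, hm⟩ := he
      exact ⟨(m : ℤ) * ((Ae : ℤ) - Ao), by rw [hm]; push_cast; ring⟩
    · have hsum : Even (∑ i ∈ Finset.range (2 * n + 1), B i) := even_sum_of_symm B n (fun i hi =>
        finrank_symm T (i : ℤ) ((2 * n - i : ℕ) : ℤ) (by omega)) (even_middle T Xb ho)
      have h2 : (∑ i ∈ Finset.range (2 * n + 1), (-1 : ZMod 2) ^ i * (B i : ZMod 2)) =
          (Ae : ZMod 2) - Ao := by
        have := alt_sum_split (fun i => (B i : ZMod 2)) n
        simpa [Ao, Ae] using this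
      have h3 : (((Ae : ℤ) - Ao : ℤ) : ZMod 2) = 0 := by
        push_cast
        rw [← h2]
        simp only [show (-1 : ZMod 2) = 1 from by decide, one_pow, one_mul, ← Nat.cast_sum]
        exact (ZMod.natCast_eq_zero_iff_even).mpr hsum
      obtain ⟨m, hm⟩ := (ZMod.intCast_zmod_eq_zero_iff_dvd _ 2).mp h3
      exact ⟨(n : ℤ) * m, by rw [hm]; push_cast; ring⟩
  obtain ⟨m, hm⟩ := hpar
  rw [hm, Int.mul_ediv_cancel_left _ two_ne_zero]
  have hDo0 : Do ≠ 0 := Finset.prod_ne_zero_iff.mpr fun i _ => det_frob_ne_zero hFapp hπ hF T _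
  have hDe0 : De ≠ 0 := Finset.prod_ne_zero_iff.mpr fun i _ => det_frob_ne_zero hFapp hπ hF T _
  set ε₀ : K := De / Do / q ^ m
  have hε₀ : ε₀ * ε₀ = 1 := by
    have hqm : q ^ m * q ^ m * q ^ (n * Ao) = q ^ (n * Ae) := by
      rw [← zpow_natCast, ← zpow_natCast, ← zpow_add₀ hq, ← zpow_add₀ hq]
      congr 1
      push_cast
      linarith
    show De / Do / q ^ m * (De / Do / q ^ m) = 1
    rw [div_mul_div_comm, div_mul_div_comm, hDe2, hDo2, ← hqm]
    have := zpow_ne_zero m hq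
    field_simp
  refine ⟨(-1) ^ Ao / (-1) ^ Ae * ε₀, ?_, ?_⟩
  · apply mul_self_eq_one_iff.mp
    rw [mul_mul_mul_comm, hε₀, mul_one, div_mul_div_comm, ← pow_add, ← pow_add,
      (Even.add_self _).neg_one_pow, (Even.add_self _).neg_one_pow, div_one]
  rw [hodd, heven, map_prod, map_prod]
  show (∏ i ∈ Finset.range n, g (2 * i + 1)) / (∏ i ∈ Finset.range (n + 1), g (2 * i)) = _
  simp only [g, Finset.prod_mul_distrib, Finset.prod_inv_distrib, Finset.prod_pow_eq_pow_sum, ← map_prod RatFunc.C]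
  show ((-1) ^ Ao * (RatFunc.C Do)⁻¹ * (RatFunc.X ^ Ao)⁻¹ * _) / ((-1) ^ Ae * (RatFunc.C De)⁻¹ * (RatFunc.X ^ Ae)⁻¹ * _) = _
  rw [zpow_sub₀ RatFunc.X_ne_zero, zpow_natCast, zpow_natCast]
  simp only [map_mul, map_div₀, map_pow, map_neg, map_one, map_zpow₀, ε₀]
  have hDo' : RatFunc.C Do ≠ 0 := by simpa using hDo0
  have hDe' : RatFunc.C De ≠ 0 := by simpa using hDe0
  have hq' : RatFunc.C q ^ m ≠ 0 := zpow_ne_zero _ (by simpa using hq)
  have hXo : (RatFunc.X : RatFunc K) ^ Ao ≠ 0 := pow_ne_zero _ RatFunc.X_ne_zero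
  have hXe : (RatFunc.X : RatFunc K) ^ Ae ≠ 0 := pow_ne_zero _ RatFunc.X_ne_zero
  field_simp
  rfl

end Frob

end Groth.Agent.H27Weil
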