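import Groth.Agent.H27Weil.FrobPoints
import Groth.Agent.H27Weil.FuncEq
import Groth.Agent.H27Zeta.Series
import Mathlib

/-!
# The zeta function through a Weil cohomology
-/

set_option autoImplicit false
universe u v w

noncomputable section

open CategoryTheory AlgebraicGeometry WeilCoh TopologicalSpace PowerSeries

namespace Groth.Agent.H27Weil

section Series

variable {A : Type*} [CommRing A] [IsDomain A] [CharZero A] [Algebra ℚ A]

theorem exp_subst_add {a b : PowerSeries A} (ha : constantCoeff a = 0) (hb : constantCoeff b = 0) :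
    (PowerSeries.exp A).subst (a + b) = (PowerSeries.exp A).subst a * (PowerSeries.exp A).subst b := by
  have has : HasSubst a := HasSubst.of_constantCoeff_zero' ha
  have hbs : HasSubst b := HasSubst.of_constantCoeff_zero' hb
  have hc : ∀ M : PowerSeries A, constantCoeff M = 0 →
      constantCoeff ((PowerSeries.exp A).subst M) = 1 := by
    intro M hM
    have hMs : HasSubst M := HasSubst.of_constantCoeff_zero' hM
    rw [← coeff_zero_eq_constantCoeff_apply, coeff_subst' hMs,
      finsum_eq_single _ 0 fun d hd => by simp [hM, zero_pow hd]]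
    simp
  refine (H27Zeta.eq_exp_subst (by simp [ha, hb]) (by rw [map_mul, hc a ha, hc b hb, mul_one]) ?_).symm
  rw [Derivation.leibniz, derivative_subst has, derivative_subst hbs, derivative_exp, map_add]
  simp only [smul_eq_mul]
  ring

theorem exp_subst_sum {ι : Type*} (s : Finset ι) (a : ι → PowerSeries A) (ha : ∀ i ∈ s, constantCoeff (a i) = 0) :
    (PowerSeries.exp A).subst (∑ i ∈ s, a i) = ∏ i ∈ s, (PowerSeries.exp A).subst (a i) := by
  classical
  induction s using Finset.induction with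
  | empty =>
    rw [Finset.sum_empty, Finset.prod_empty]
    exact (H27Zeta.eq_exp_subst (map_zero _) (map_one _) (by simp)).symm
  | insert i t hi ih =>
    rw [Finset.sum_insert hi, Finset.prod_insert hi,
      exp_subst_add (ha i (Finset.mem_insert_self i t)) (by
        rw [map_sum]; exact Finset.sum_eq_zero fun j hj => ha j (Finset.mem_insert_of_mem hj)),
      ih fun j hj => ha j (Finset.mem_insert_of_mem hj)]

end Series

theorem charpoly_reverse_eq_exp {K V : Type*} [Field K] [CharZero K] [AddCommGroup V] [Module K V]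
    [FiniteDimensional K V] (φ : V →ₗ[K] V) :
    ((LinearMap.charpoly φ).reverse : PowerSeries K) =
      (PowerSeries.exp K).subst (PowerSeries.mk fun m : ℕ => -(LinearMap.trace K V (φ ^ m)) / (m : K)) := by
  classical
  set b := Module.finBasis K V
  rw [← LinearMap.charpoly_toMatrix φ b, Matrix.reverse_charpoly, H27Zeta.charpolyRev_eq_exp]
  congr 2
  funext m
  rw [LinearMap.toMatrix_pow, LinearMap.trace_eq_matrix_trace K b]

theorem pullDeg_fpow {k : Type u} [Field k] {P : ObjectProperty (Over (Spec (CommRingCat.of k)))}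
    {K : Type v} [Field K] (T : TheoryOn.{u, v, w} k P K) {X : P.FullSubcategory} (F : X ⟶ X) (i : ℤ) :
    ∀ m, T.pullDeg (fpow F m) i = T.pullDeg F i ^ m
  | 0 => by
    apply LinearMap.ext
    intro a
    apply Subtype.ext
    show T.pull (𝟙 X) (a : T.H X) = a
    rw [T.pull_id]; rfl
  | m + 1 => by
    rw [pow_succ, ← pullDeg_fpow T F i m]
    apply LinearMap.ext
    intro a
    apply Subtype.ext
    show T.pull (fpow F m ≫ F) (a : T.H X) = T.pull (fpow F m) (T.pull F (a : T.H X))
    rw [T.pull_comp]; rfl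

section Frob

variable {k₀ : Type u} [Field k₀] [Finite k₀] {k : Type u} [Field k] [IsAlgClosed k] [Algebra k₀ k]
  {X : Scheme.{u}} {f : X ⟶ Spec (CommRingCat.of k₀)} [LocallyOfFiniteType f]
  {FX : X ⟶ X} {hle : ∀ U : X.Opens, U ≤ FX ⁻¹ᵁ U}
  (hFapp : ∀ (U : X.Opens) (s : Γ(X, U)), (FX.appLE U U (hle U)).hom s = s ^ Nat.card k₀)
  {Xb : Var k} {π : Xb.obj.left ⟶ X}
  (hπ : IsPullback π Xb.obj.hom f (Spec.map (CommRingCat.ofHom (algebraMap k₀ k))))
  {F : Xb ⟶ Xb} (hF : WeilCoh.sm F ≫ π = π ≫ FX)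
  {K : Type v} [Field K] [CharZero K] (T : Theory.{u, v} k K)
  {Pb : WeilCoh.Var k} {p q : Pb ⟶ Xb} (hP : WeilCoh.IsProd p q)

include hFapp hπ hF hP

/-- The number of points over the extension of degree `m` through cohomology. -/
theorem nPts_eq_trace (m : ℕ) (hm : m ≠ 0) :
    (Zeta.nPts f m : K) = ∑ i ∈ Finset.range (2 * WeilCoh.dim Xb.obj.left + 1),
      (-1 : K) ^ i * LinearMap.trace K ↥(T.gr Xb (i : ℤ)) (T.pullDeg F (i : ℤ) ^ m) := by
  obtain ⟨hfin, h⟩ := lefschetz_fixed T Xb Pb (fpow F m) p q hP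
    (fun w hw hG a ha => frob_fixed_zero hFapp hπ hF m hm w hw hG a ha)
  rw [← card_fixed hFapp hπ hF m hm hfin, ← h]
  exact Finset.sum_congr rfl fun i _ => by rw [pullDeg_fpow]

theorem zeta_formula :
    PowerSeries.map (algebraMap ℚ K) (Zeta.zetaFun f) *
        (∏ i ∈ Finset.range (WeilCoh.dim Xb.obj.left + 1),
          ((LinearMap.charpoly (T.pullDeg F ((2 * i : ℕ) : ℤ))).reverse : PowerSeries K)) =
      ∏ i ∈ Finset.range (WeilCoh.dim Xb.obj.left),
        ((LinearMap.charpoly (T.pullDeg F ((2 * i + 1 : ℕ) : ℤ))).reverse : PowerSeries K) := by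
  set n := WeilCoh.dim Xb.obj.left
  let t : ℕ → ℕ → K := fun i m => LinearMap.trace K ↥(T.gr Xb (i : ℤ)) (T.pullDeg F (i : ℤ) ^ m)
  let L : ℕ → PowerSeries K := fun i => PowerSeries.mk fun m => -(t i m) / (m : K)
  have hL : ∀ i, constantCoeff (L i) = 0 := fun i => by simp [L]
  have hP' : ∀ i : ℕ, ((LinearMap.charpoly (T.pullDeg F (i : ℤ))).reverse : PowerSeries K) =
      (PowerSeries.exp K).subst (L i) := fun i => charpoly_reverse_eq_exp _
  have hlog : constantCoeff (PowerSeries.map (algebraMap ℚ K) (Zeta.logZeta f)) = 0 := by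
    rw [← coeff_zero_eq_constantCoeff_apply, coeff_map, Zeta.logZeta, coeff_mk]; simp
  have hms : PowerSeries.map (algebraMap ℚ K) (Zeta.zetaFun f) =
      (PowerSeries.exp K).subst (PowerSeries.map (algebraMap ℚ K) (Zeta.logZeta f)) := by
    have h0 : constantCoeff (Zeta.logZeta f) = 0 := by
      rw [← coeff_zero_eq_constantCoeff_apply, Zeta.logZeta, coeff_mk]; simp
    rw [← PowerSeries.map_exp (algebraMap ℚ K)]
    exact PowerSeries.map_subst (HasSubst.of_constantCoeff_zero' h0) _
  rw [Finset.prod_congr rfl fun i _ => hP' (2 * i), Finset.prod_congr rfl fun i _ => hP' (2 * i + 1),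
    ← exp_subst_sum _ _ (fun i _ => hL _), ← exp_subst_sum _ _ (fun i _ => hL _), hms,
    ← exp_subst_add hlog (by rw [map_sum]; exact Finset.sum_eq_zero fun i _ => hL _)]
  congr 1
  ext m
  rw [map_add, map_sum, map_sum, coeff_map, Zeta.logZeta]
  simp only [L, coeff_mk]
  rcases eq_or_ne m 0 with rfl | hm
  · simp
  rw [map_div₀, map_natCast, map_natCast, ← Finset.sum_div, ← Finset.sum_div, ← add_div,
    nPts_eq_trace hFapp hπ hF T hP m hm, alt_sum_split (fun i => t i m) n, Finset.sum_neg_distrib,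
    Finset.sum_neg_distrib]
  congr 1
  ring

omit hFapp hπ hF hP in
theorem rational_descent {K : Type*} [Field K] [CharZero K] (Z : PowerSeries ℚ)
    (h : ∃ P Q : Polynomial K, Q ≠ 0 ∧
      PowerSeries.map (algebraMap ℚ K) Z * (Q : PowerSeries K) = (P : PowerSeries K)) :
    ∃ P Q : Polynomial ℚ, Q ≠ 0 ∧ Z * (Q : PowerSeries ℚ) = (P : PowerSeries ℚ) := by
  obtain ⟨M, N, hMN⟩ := (H27Zeta.rational_iff _).mp h
  refine (H27Zeta.rational_iff Z).mpr ⟨M, N, fun htop => hMN ?_⟩
  let c : (Fin (N + 1) → ℚ) →ₗ[ℚ] (Fin (N + 1) → K) :=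
    LinearMap.pi fun i => (Algebra.linearMap ℚ K).comp (LinearMap.proj i)
  have hw : c '' H27Zeta.windows Z M N ⊆
      H27Zeta.windows (PowerSeries.map (algebraMap ℚ K) Z) M N := by
    rintro _ ⟨v, ⟨i, hi, rfl⟩, rfl⟩
    exact ⟨i, hi, funext fun j => by simp [c]⟩
  rw [eq_top_iff, ← (Pi.basisFun K (Fin (N + 1))).span_eq, Submodule.span_le]
  rintro _ ⟨i, rfl⟩
  have h1 : c (Pi.basisFun ℚ (Fin (N + 1)) i) ∈ Submodule.span ℚ (c '' H27Zeta.windows Z M N) := by
    rw [← Submodule.map_span, htop]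
    exact Submodule.mem_map_of_mem trivial
  have h2 : c (Pi.basisFun ℚ (Fin (N + 1)) i) = Pi.basisFun K (Fin (N + 1)) i := by
    funext j
    rcases eq_or_ne j i with rfl | hji
    · simp [c]
    · simp [c, hji]
  rw [← h2]
  exact Submodule.span_le_restrictScalars ℚ K _ (Submodule.span_mono hw h1)

include T in
theorem zeta_rational :
    ∃ P Q : Polynomial ℚ, Q ≠ 0 ∧ Zeta.zetaFun f * (Q : PowerSeries ℚ) = (P : PowerSeries ℚ) := by
  refine rational_descent (K := K) _ ⟨∏ i ∈ Finset.range (WeilCoh.dim Xb.obj.left),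
      (LinearMap.charpoly (T.pullDeg F ((2 * i + 1 : ℕ) : ℤ))).reverse,
    ∏ i ∈ Finset.range (WeilCoh.dim Xb.obj.left + 1),
      (LinearMap.charpoly (T.pullDeg F ((2 * i : ℕ) : ℤ))).reverse,
    Finset.prod_ne_zero_iff.mpr fun i _ h => (LinearMap.charpoly_monic _).ne_zero
      (Polynomial.reverse_eq_zero.mp h), ?_⟩
  simp only [← Polynomial.coeToPowerSeries.ringHom_apply, map_prod]
  exact zeta_formula hFapp hπ hF T hP

end Frob

end Groth.Agent.H27Weil
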