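import Groth.Prelude.Def_WeilCoh
import Mathlib

/-!
# Formal consequences of the axioms of a Weil cohomology theory
-/

set_option autoImplicit false
universe u v w

noncomputable section

open CategoryTheory AlgebraicGeometry WeilCoh TensorProduct

namespace Groth.Agent.H27Weil

variable {k : Type u} [Field k] {P : ObjectProperty (Over (Spec (CommRingCat.of k)))}
variable {K : Type v} [Field K] (T : TheoryOn.{u, v, w} k P K)

/-- A class of top degree with trace one. -/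
theorem exists_top (X : P.FullSubcategory) : ∃ b ∈ T.gr X ((2 * (WeilCoh.dim X.obj.left : ℤ))), T.tr X b = 1 := by
  obtain ⟨⟨b, hb⟩, h⟩ := (T.tr_bijective X).2 1
  exact ⟨b, hb, h⟩

theorem top_eq_smul (X : P.FullSubcategory) {b₀ b : T.H X} (h₀ : b₀ ∈ T.gr X ((2 * (WeilCoh.dim X.obj.left : ℤ))))
    (h₀' : T.tr X b₀ = 1) (hb : b ∈ T.gr X ((2 * (WeilCoh.dim X.obj.left : ℤ)))) : b = T.tr X b • b₀ := by
  have := (T.tr_bijective X).1 (a₁ := ⟨b, hb⟩) (a₂ := ⟨_, (T.gr X _).smul_mem (T.tr X b) h₀⟩)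
    (by simp [LinearMap.domRestrict_apply, h₀'])
  exact congrArg Subtype.val this

theorem one_ne_zero' (X : P.FullSubcategory) : (1 : T.H X) ≠ 0 := by
  intro h
  obtain ⟨b, -, hb⟩ := exists_top T X
  have : b = 0 := by rw [← one_mul b, h, zero_mul]
  rw [this, map_zero] at hb
  exact zero_ne_one hb

/-- Classes in degree `i` are determined by their pairings with degree `j = 2 dim - i`. -/
theorem eq_of_tr (X : P.FullSubcategory) {i j : ℤ} (hij : i + j = (2 * (WeilCoh.dim X.obj.left : ℤ))) {a a' : T.H X}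
    (ha : a ∈ T.gr X i) (ha' : a' ∈ T.gr X i)
    (h : ∀ b ∈ T.gr X j, T.tr X (a * b) = T.tr X (a' * b)) : a = a' := by
  haveI := T.duality X i j hij
  have := (LinearMap.IsPerfPair.bijective_left
    (pairing K (T.gr X i) (T.gr X j) (T.tr X))).1 (a₁ := ⟨a, ha⟩) (a₂ := ⟨a', ha'⟩)
    (LinearMap.ext fun b => h b.1 b.2)
  exact congrArg Subtype.val this

theorem eq_zero_of_tr (X : P.FullSubcategory) {i j : ℤ} (hij : i + j = (2 * (WeilCoh.dim X.obj.left : ℤ))) {a : T.H X}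
    (ha : a ∈ T.gr X i) (h : ∀ b ∈ T.gr X j, T.tr X (a * b) = 0) : a = 0 :=
  eq_of_tr T X hij ha (zero_mem _) fun b hb => by rw [h b hb, zero_mul, map_zero]

theorem mem_gr_zero (X : P.FullSubcategory) {a : T.H X} (ha : a ∈ T.gr X 0) :
    ∃ c : K, a = c • (1 : T.H X) := by
  obtain ⟨b₀, h₀, h₀'⟩ := exists_top T X
  refine ⟨T.tr X (a * b₀), eq_of_tr T X (zero_add ((2 * (WeilCoh.dim X.obj.left : ℤ)))) ha
    ((T.gr X 0).smul_mem _ (SetLike.one_mem_graded (T.gr X))) fun b hb => ?_⟩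
  rw [top_eq_smul T X h₀ h₀' hb, mul_smul_comm, smul_mul_assoc, one_mul, map_smul, map_smul, map_smul,
    smul_eq_mul, smul_eq_mul, smul_eq_mul, h₀', mul_one, mul_comm]

theorem smul_one_injective (X : P.FullSubcategory) :
    Function.Injective (fun c : K => c • (1 : T.H X)) :=
  smul_left_injective K (one_ne_zero' T X)

theorem smul_one_gr_zero_bijective (X : P.FullSubcategory) :
    Function.Bijective (fun c : K =>
      (⟨c • (1 : T.H X), (T.gr X 0).smul_mem c (SetLike.one_mem_graded (T.gr X))⟩ : ↥(T.gr X 0))) := by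
  refine ⟨fun c c' h => smul_one_injective T X (congrArg Subtype.val h), fun ⟨a, ha⟩ => ?_⟩
  obtain ⟨c, rfl⟩ := mem_gr_zero T X ha
  exact ⟨c, rfl⟩

/-! ## Push forward -/

/-- The defining property of the push-forward. -/
theorem tr_push {X Y : P.FullSubcategory} (f : X ⟶ Y) (i : ℤ) (a : T.gr X i) {b : T.H Y}
    (hb : b ∈ T.gr Y ((2 * (WeilCoh.dim X.obj.left : ℤ)) - i)) :
    T.tr Y ((T.push f i a : T.H Y) * b) = T.tr X ((a : T.H X) * T.pull f b) := by
  haveI := T.duality Y (i + (2 * (WeilCoh.dim Y.obj.left : ℤ)) - (2 * (WeilCoh.dim X.obj.left : ℤ))) ((2 * (WeilCoh.dim X.obj.left : ℤ)) - i) (by omega)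
  have := LinearMap.apply_symm_toPerfPair_self
    (pairing K (T.gr Y (i + (2 * (WeilCoh.dim Y.obj.left : ℤ)) - (2 * (WeilCoh.dim X.obj.left : ℤ)))) (T.gr Y ((2 * (WeilCoh.dim X.obj.left : ℤ)) - i)) (T.tr Y)) (T.pushFunctional f i a)
  exact LinearMap.congr_fun this ⟨b, hb⟩

/-- Uniqueness of the push-forward. -/
theorem push_eq {X Y : P.FullSubcategory} (f : X ⟶ Y) (i : ℤ) (a : T.gr X i) {c : T.H Y}
    (hc : c ∈ T.gr Y (i + (2 * (WeilCoh.dim Y.obj.left : ℤ)) - (2 * (WeilCoh.dim X.obj.left : ℤ))))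
    (h : ∀ b ∈ T.gr Y ((2 * (WeilCoh.dim X.obj.left : ℤ)) - i), T.tr Y (c * b) = T.tr X ((a : T.H X) * T.pull f b)) :
    (T.push f i a : T.H Y) = c :=
  eq_of_tr T Y (j := (2 * (WeilCoh.dim X.obj.left : ℤ)) - i) (by omega) (T.push f i a).2 hc fun b hb => by
    rw [tr_push T f i a hb, h b hb]

theorem push_eq_zero {X Y : P.FullSubcategory} (f : X ⟶ Y) (i : ℤ) (a : T.gr X i)
    (h : ∀ b ∈ T.gr Y ((2 * (WeilCoh.dim X.obj.left : ℤ)) - i), T.tr X ((a : T.H X) * T.pull f b) = 0) :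
    (T.push f i a : T.H Y) = 0 :=
  push_eq T f i a (zero_mem _) fun b hb => by rw [h b hb, zero_mul, map_zero]

theorem push_mul_pull {X Y : P.FullSubcategory} (f : X ⟶ Y) (i j : ℤ)
    (a : ↥(T.gr X i)) (c : ↥(T.gr Y j)) :
    (T.push f (i + j) ⟨(a : T.H X) * T.pull f c, SetLike.mul_mem_graded a.2 (T.pull_mem f j c c.2)⟩ : T.H Y) =
      (T.push f i a : T.H Y) * c := by
  refine push_eq T f (i + j) _ ?_ fun b hb => ?_
  · have h := SetLike.mul_mem_graded (A := T.gr Y) (T.push f i a).2 c.2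
    rwa [show i + (2 * (WeilCoh.dim Y.obj.left : ℤ)) - (2 * (WeilCoh.dim X.obj.left : ℤ)) + j = i + j + (2 * (WeilCoh.dim Y.obj.left : ℤ)) - (2 * (WeilCoh.dim X.obj.left : ℤ)) by ring] at h
  · have hcb : (c : T.H Y) * b ∈ T.gr Y ((2 * (WeilCoh.dim X.obj.left : ℤ)) - i) := by
      have h := SetLike.mul_mem_graded (A := T.gr Y) c.2 hb
      rwa [show j + ((2 * (WeilCoh.dim X.obj.left : ℤ)) - (i + j)) = (2 * (WeilCoh.dim X.obj.left : ℤ)) - i by ring] at h
    rw [mul_assoc, tr_push T f i a hcb, map_mul (T.pull f), mul_assoc]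

theorem push_comp {X Y Z : P.FullSubcategory} (f : X ⟶ Y) (g : Y ⟶ Z) (i : ℤ) (a : ↥(T.gr X i)) :
    (T.push (f ≫ g) i a : T.H Z) = (T.push g (i + (2 * (WeilCoh.dim Y.obj.left : ℤ)) - (2 * (WeilCoh.dim X.obj.left : ℤ))) (T.push f i a) : T.H Z) := by
  refine push_eq T (f ≫ g) i a ?_ fun b hb => ?_
  · have h := (T.push g (i + (2 * (WeilCoh.dim Y.obj.left : ℤ)) - (2 * (WeilCoh.dim X.obj.left : ℤ))) (T.push f i a)).2
    convert h using 2
    omega
  · have hb' : b ∈ T.gr Z ((2 * (WeilCoh.dim Y.obj.left : ℤ)) - (i + (2 * (WeilCoh.dim Y.obj.left : ℤ)) - (2 * (WeilCoh.dim X.obj.left : ℤ)))) := by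
      convert hb using 2; omega
    rw [tr_push T g _ _ hb', tr_push T f i a (T.pull_mem g _ b hb), T.pull_comp, AlgHom.comp_apply]

/-! ## Dimension of products -/

theorem eq_bot_of_degree (X : P.FullSubcategory) {i : ℤ} (h : i < 0 ∨ (2 * (WeilCoh.dim X.obj.left : ℤ)) < i) {a : T.H X}
    (ha : a ∈ T.gr X i) : a = 0 := by
  rw [T.vanish X i h] at ha; exact ha

include T in
theorem dim_prod_eq {X Y Q : P.FullSubcategory} (p : Q ⟶ X) (q : Q ⟶ Y) (hQ : IsProd p q) :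
    WeilCoh.dim Q.obj.left = WeilCoh.dim X.obj.left + WeilCoh.dim Y.obj.left := by
  obtain ⟨a, ha, ha'⟩ := exists_top T X
  obtain ⟨b, hb, hb'⟩ := exists_top T Y
  have h1 : T.tr Q (T.pull p a * T.pull q b) = 1 := by rw [T.tr_prod p q hQ a b ha hb, ha', hb', mul_one]
  have hm := SetLike.mul_mem_graded (A := T.gr Q) (T.pull_mem p _ a ha) (T.pull_mem q _ b hb)
  by_contra hne
  have := T.tr_vanish Q _ _ hm (by omega)
  exact one_ne_zero (h1.symm.trans this)

/-- `tr (p* a · q* b)` for classes of arbitrary degrees. -/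
theorem tr_prod_apply {X Y Q : P.FullSubcategory} (p : Q ⟶ X) (q : Q ⟶ Y) (hQ : IsProd p q)
    {i j : ℤ} {a : T.H X} {b : T.H Y} (ha : a ∈ T.gr X i) (hb : b ∈ T.gr Y j) :
    T.tr Q (T.pull p a * T.pull q b) = T.tr X a * T.tr Y b := by
  have hd := dim_prod_eq T p q hQ
  by_cases hi : i = (2 * (WeilCoh.dim X.obj.left : ℤ))
  · by_cases hj : j = (2 * (WeilCoh.dim Y.obj.left : ℤ))
    · subst hi hj; exact T.tr_prod p q hQ a b ha hb
    · rw [T.tr_vanish Y j b hb hj, mul_zero]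
      exact T.tr_vanish Q _ _ (SetLike.mul_mem_graded (A := T.gr Q) (T.pull_mem p _ a ha)
        (T.pull_mem q _ b hb)) (by omega)
  · rw [T.tr_vanish X i a ha hi, zero_mul]
    rcases lt_or_gt_of_ne hi with hlt | hgt
    · by_cases hs : i + j = (2 * (WeilCoh.dim Q.obj.left : ℤ))
      · rw [eq_bot_of_degree T Y (Or.inr (by omega)) hb, map_zero, mul_zero, map_zero]
      · exact T.tr_vanish Q _ _ (SetLike.mul_mem_graded (A := T.gr Q) (T.pull_mem p _ a ha)
          (T.pull_mem q _ b hb)) hs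
    · rw [eq_bot_of_degree T X (Or.inr hgt) ha, map_zero, zero_mul, map_zero]

theorem push_fst_pull_snd {X Y Q : P.FullSubcategory} (p : Q ⟶ X) (q : Q ⟶ Y)
    (hQ : IsProd p q) (i : ℤ) (a : ↥(T.gr Y i)) :
    (i = (2 * (WeilCoh.dim Y.obj.left : ℤ)) →
      (T.push p i ⟨T.pull q a, T.pull_mem q i a a.2⟩ : T.H X) = algebraMap K (T.H X) (T.tr Y a)) ∧
    (i ≠ (2 * (WeilCoh.dim Y.obj.left : ℤ)) → (T.push p i ⟨T.pull q a, T.pull_mem q i a a.2⟩ : T.H X) = 0) := by
  have hd := dim_prod_eq T p q hQ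
  have key : ∀ b ∈ T.gr X ((2 * (WeilCoh.dim Q.obj.left : ℤ)) - i), T.tr Q (T.pull q (a : T.H Y) * T.pull p b) = T.tr Y a * T.tr X b := by
    intro b hb
    rw [T.gradedComm Q i ((2 * (WeilCoh.dim Q.obj.left : ℤ)) - i) _ _ (T.pull_mem q i a a.2) (T.pull_mem p _ b hb), map_smul,
      tr_prod_apply T p q hQ hb a.2, smul_eq_mul]
    by_cases hi : i = (2 * (WeilCoh.dim Y.obj.left : ℤ))
    · have he : Even i.natAbs := by
        rw [Int.natAbs_even, hi]
        exact even_two_mul _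
      rw [(he.mul_right _).neg_one_pow, one_mul, mul_comm]
    · rw [T.tr_vanish Y i a a.2 hi, mul_zero, zero_mul, mul_zero]
  constructor
  · intro hi
    refine push_eq T p i _ ?_ fun b hb => ?_
    · rw [Algebra.algebraMap_eq_smul_one, show i + (2 * (WeilCoh.dim X.obj.left : ℤ)) - (2 * (WeilCoh.dim Q.obj.left : ℤ)) = 0 by omega]
      exact (T.gr X 0).smul_mem _ (SetLike.one_mem_graded (T.gr X))
    · rw [key b hb, ← Algebra.smul_def, map_smul, smul_eq_mul]
  · intro hi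
    exact push_eq_zero T p i _ fun b hb => by rw [key b hb, T.tr_vanish Y i a a.2 hi, zero_mul]

end Groth.Agent.H27Weil
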