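import Groth.Agent.H27Weil.Trace
import Mathlib

/-!
# Cohomological correspondences
-/

set_option autoImplicit false
universe u v w

noncomputable section

open CategoryTheory AlgebraicGeometry WeilCoh TopologicalSpace TensorProduct

namespace Groth.Agent.H27Weil

variable {k : Type u} [Field k] {P : ObjectProperty (Over (Spec (CommRingCat.of k)))}
variable {K : Type v} [Field K] (T : TheoryOn.{u, v, w} k P K)

/-- The action `a ↦ q_*(p* a ∪ φ)` of a class on a product. -/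
def act {X Y Q : P.FullSubcategory} (p : Q ⟶ X) (q : Q ⟶ Y) (m : ℤ) (φ : ↥(T.gr Q m)) (i : ℤ) :
    ↥(T.gr X i) →ₗ[K] ↥(T.gr Y (i + m + 2 * (WeilCoh.dim Y.obj.left : ℤ) - 2 * (WeilCoh.dim Q.obj.left : ℤ))) :=
  (T.push q (i + m)) ∘ₗ
    ((LinearMap.mulRight K (φ : T.H Q)).restrict (p := T.gr Q i) (q := T.gr Q (i + m))
      (fun x hx => SetLike.mul_mem_graded hx φ.2)) ∘ₗ (T.pullDeg p i)

theorem tr_act {X Y Q : P.FullSubcategory} (p : Q ⟶ X) (q : Q ⟶ Y) (m : ℤ) (φ : ↥(T.gr Q m)) (i : ℤ)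
    (a : ↥(T.gr X i)) {j : ℤ} {y : T.H Y} (hy : y ∈ T.gr Y j) :
    T.tr Y ((act T p q m φ i a : T.H Y) * y) = T.tr Q (T.pull p (a : T.H X) * (φ : T.H Q) * T.pull q y) := by
  by_cases hj : j = 2 * (WeilCoh.dim Q.obj.left : ℤ) - (i + m)
  · subst hj
    exact tr_push T q (i + m) _ hy
  · rw [T.tr_vanish Y _ _ (SetLike.mul_mem_graded (A := T.gr Y) (act T p q m φ i a).2 hy) (by omega),
      T.tr_vanish Q _ _ (SetLike.mul_mem_graded (A := T.gr Q)
        (SetLike.mul_mem_graded (A := T.gr Q) (T.pull_mem p i a a.2) φ.2) (T.pull_mem q j y hy)) (by omega)]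

theorem act_add {X Y Q : P.FullSubcategory} (p : Q ⟶ X) (q : Q ⟶ Y) (m : ℤ) (φ φ' : ↥(T.gr Q m)) (i : ℤ) :
    act T p q m (φ + φ') i = act T p q m φ i + act T p q m φ' i := by
  refine LinearMap.ext fun a => ?_
  simp only [act, LinearMap.comp_apply, LinearMap.add_apply, ← map_add]
  congr 1
  exact Subtype.ext (mul_add _ _ _)

theorem act_smul {X Y Q : P.FullSubcategory} (p : Q ⟶ X) (q : Q ⟶ Y) (m : ℤ) (c : K) (φ : ↥(T.gr Q m)) (i : ℤ) :
    act T p q m (c • φ) i = c • act T p q m φ i := by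
  refine LinearMap.ext fun a => ?_
  rw [LinearMap.smul_apply]
  simp only [act, LinearMap.comp_apply]
  rw [← map_smul (T.push q (i + m))]
  congr 1
  exact Subtype.ext (mul_smul_comm _ _ _)

theorem eq_zero_of_act {X Y Q : P.FullSubcategory} {p : Q ⟶ X} {q : Q ⟶ Y} (hQ : IsProd p q) (m : ℤ)
    (φ : ↥(T.gr Q m)) (h : ∀ i a, (act T p q m φ i a : T.H Y) = 0) : φ = 0 := by
  apply Subtype.ext
  refine eq_zero_of_tr T Q (j := 2 * (WeilCoh.dim Q.obj.left : ℤ) - m) (by omega) φ.2 fun z _ => ?_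
  refine kunneth_ext T p q hQ (L := T.tr Q ∘ₗ LinearMap.mulLeft K (φ : T.H Q)) (L' := 0) ?_ z
  intro s t a ha b hb
  simp only [LinearMap.comp_apply, LinearMap.mulLeft_apply, LinearMap.zero_apply]
  rw [← mul_assoc, T.gradedComm Q m s _ _ φ.2 (T.pull_mem p _ a ha), smul_mul_assoc, map_smul,
    ← tr_act T p q m φ s ⟨a, ha⟩ hb, h, zero_mul, map_zero, smul_zero]

theorem exists_class_of_maps {X Y Q : P.FullSubcategory} {p : Q ⟶ X} {q : Q ⟶ Y} (hQ : IsProd p q)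
    (n : ℤ → ℕ) (e : ∀ r, Module.Basis (Fin (n r)) K ↥(T.gr X r))
    (f : ∀ r, Fin (n r) → ↥(T.gr X (2 * (WeilCoh.dim X.obj.left : ℤ) - r)))
    (hef : ∀ r i l, T.tr X ((f r l : T.H X) * (e r i : T.H X)) = if i = l then 1 else 0)
    (m : ℤ) (g : ∀ i : ℤ, ↥(T.gr X i) →ₗ[K]
      ↥(T.gr Y (i + m + 2 * (WeilCoh.dim Y.obj.left : ℤ) - 2 * (WeilCoh.dim Q.obj.left : ℤ)))) :
    ∃ φ : ↥(T.gr Q m),
      (φ : T.H Q) = ∑ r ∈ Finset.range (2 * WeilCoh.dim X.obj.left + 1), ∑ l : Fin (n (r : ℤ)),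
        sgn K (r : ℤ) (2 * (WeilCoh.dim X.obj.left : ℤ) - r) •
          (T.pull p (f (r : ℤ) l : T.H X) * T.pull q (g (r : ℤ) (e (r : ℤ) l) : T.H Y)) ∧
      ∀ i a, act T p q m φ i a = g i a := by
  classical
  have hd := dim_prod_eq T p q hQ
  have hmem : (∑ r ∈ Finset.range (2 * WeilCoh.dim X.obj.left + 1), ∑ l : Fin (n (r : ℤ)),
      sgn K (r : ℤ) (2 * (WeilCoh.dim X.obj.left : ℤ) - r) • (T.pull p (f (r : ℤ) l : T.H X) * T.pull q (g (r : ℤ) (e (r : ℤ) l) : T.H Y))) ∈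
      T.gr Q m := by
    refine Submodule.sum_mem _ fun r _ => Submodule.sum_mem _ fun l _ => Submodule.smul_mem _ _ ?_
    have := SetLike.mul_mem_graded (A := T.gr Q) (T.pull_mem p _ _ (f (r : ℤ) l).2)
      (T.pull_mem q _ _ (g (r : ℤ) (e (r : ℤ) l)).2)
    convert this using 2
    rw [hd]; push_cast; ring
  refine ⟨⟨_, hmem⟩, rfl, fun i a => ?_⟩
  by_cases hi : 0 ≤ i ∧ i ≤ 2 * (WeilCoh.dim X.obj.left : ℤ)
  swap
  · have ha : a = 0 := Subtype.ext (eq_bot_of_degree T X (by omega) a.2)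
    simp [ha]
  obtain ⟨i, rfl⟩ : ∃ t : ℕ, i = (t : ℤ) := ⟨i.toNat, (Int.toNat_of_nonneg hi.1).symm⟩
  apply Subtype.ext
  refine eq_of_tr T Y (j := 2 * (WeilCoh.dim Q.obj.left : ℤ) - ((i : ℤ) + m)) (by omega)
    (act T p q m ⟨_, hmem⟩ i a).2 (g i a).2 fun y hy => ?_
  rw [tr_act T p q m _ _ a hy]
  simp only [Finset.mul_sum, Finset.sum_mul, map_sum, mul_smul_comm, smul_mul_assoc, map_smul, smul_eq_mul]
  have hterm : ∀ (r : ℕ) (l : Fin (n (r : ℤ))),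
      T.tr Q (T.pull p (a : T.H X) * (T.pull p (f (r : ℤ) l : T.H X) * T.pull q (g (r : ℤ) (e (r : ℤ) l) : T.H Y)) * T.pull q y) =
        T.tr X ((a : T.H X) * (f (r : ℤ) l : T.H X)) * T.tr Y ((g (r : ℤ) (e (r : ℤ) l) : T.H Y) * y) := by
    intro r l
    rw [← mul_assoc, ← map_mul, mul_assoc, ← map_mul,
      tr_prod_apply T p q hQ (SetLike.mul_mem_graded (A := T.gr X) a.2 (f (r : ℤ) l).2)
        (SetLike.mul_mem_graded (A := T.gr Y) (g (r : ℤ) (e (r : ℤ) l)).2 hy)]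
  simp only [hterm]
  rw [Finset.sum_eq_single i]
  · have hrepr := fun l => repr_eq_tr T X (e (i : ℤ)) (f (i : ℤ)) (hef (i : ℤ)) a l
    conv_rhs => rw [← (e (i : ℤ)).sum_repr a]
    simp only [map_sum, map_smul, AddSubmonoidClass.coe_finsetSum, SetLike.val_smul, Finset.sum_mul,
      smul_mul_assoc, smul_eq_mul, hrepr]
    refine Finset.sum_congr rfl fun l _ => ?_
    rw [tr_comm T X a.2 (f (i : ℤ) l).2, ← mul_assoc, ← mul_assoc, sgn_mul_self, one_mul]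
  · intro r _ hr
    refine Finset.sum_eq_zero fun l _ => ?_
    rw [T.tr_vanish X _ _ (SetLike.mul_mem_graded (A := T.gr X) a.2 (f (r : ℤ) l).2)
      (show (i : ℤ) + (2 * (WeilCoh.dim X.obj.left : ℤ) - r) ≠ 2 * (WeilCoh.dim X.obj.left : ℤ) by omega), zero_mul, mul_zero]
  · intro h
    exact absurd (Finset.mem_range.mpr (by omega)) h

theorem act_bijective {X Y Q : P.FullSubcategory} {p : Q ⟶ X} {q : Q ⟶ Y} (hQ : IsProd p q) (m : ℤ) :
    Function.Bijective (fun φ : ↥(T.gr Q m) => fun i : ℤ => act T p q m φ i) := by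
  refine ⟨fun φ φ' h => ?_, fun g => ?_⟩
  · have h0 : φ - φ' = 0 := eq_zero_of_act T hQ m _ fun i a => by
      have e1 : act T p q m (φ - φ') i + act T p q m φ' i = act T p q m φ i := by
        rw [← act_add, sub_add_cancel]
      have e2 : act T p q m φ i = act T p q m φ' i := congrFun h i
      rw [e2] at e1
      have e3 := LinearMap.congr_fun e1 a
      rw [LinearMap.add_apply] at e3
      have e4 : act T p q m (φ - φ') i a = 0 := add_eq_right.mp e3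
      rw [e4]; rfl
    exact sub_eq_zero.mp h0
  · obtain ⟨n, e, f, hef⟩ := exists_dualBasis T X
    obtain ⟨φ, -, hφ⟩ := exists_class_of_maps T hQ n e f hef m g
    exact ⟨φ, funext fun i => LinearMap.ext (hφ i)⟩

/-- Pulling back along the swap preserves the trace. -/
theorem tr_pull_swap {X Y Q Q' : P.FullSubcategory} {p : Q ⟶ X} {q : Q ⟶ Y} (hQ : IsProd p q)
    {p' : Q' ⟶ Y} {q' : Q' ⟶ X} (hQ' : IsProd p' q') (σ : Q ⟶ Q') (hσ₁ : σ ≫ p' = q) (hσ₂ : σ ≫ q' = p)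
    (z : T.H Q') : T.tr Q (T.pull σ z) = T.tr Q' z := by
  refine kunneth_ext T p' q' hQ' (L := T.tr Q ∘ₗ (T.pull σ).toLinearMap) (L' := T.tr Q') ?_ z
  intro i j a ha b hb
  simp only [LinearMap.comp_apply, AlgHom.toLinearMap_apply]
  rw [map_mul, ← AlgHom.comp_apply (T.pull σ), ← AlgHom.comp_apply (T.pull σ), ← T.pull_comp, ← T.pull_comp,
    hσ₁, hσ₂, T.gradedComm Q i j _ _ (T.pull_mem q _ a ha) (T.pull_mem p _ b hb), map_smul, smul_eq_mul,
    tr_prod_apply T p q hQ hb ha, tr_prod_apply T p' q' hQ' ha hb]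
  by_cases hi : i = 2 * (WeilCoh.dim Y.obj.left : ℤ)
  · have he : Even i.natAbs := by rw [Int.natAbs_even, hi]; exact even_two_mul _
    rw [(he.mul_right _).neg_one_pow, one_mul, mul_comm]
  · rw [T.tr_vanish Y i a ha hi, mul_zero, zero_mul, mul_zero]

/-- The trace formula for the composite of two correspondences. -/
theorem tr_mul_pull_swap {X Y Q Q' : P.FullSubcategory} {p : Q ⟶ X} {q : Q ⟶ Y} (hQ : IsProd p q)
    {p' : Q' ⟶ Y} {q' : Q' ⟶ X} (hQ' : IsProd p' q') (σ : Q ⟶ Q') (hσ₁ : σ ≫ p' = q) (hσ₂ : σ ≫ q' = p)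
    {m m' : ℤ} (hm : m + m' = 2 * (WeilCoh.dim X.obj.left : ℤ) + 2 * (WeilCoh.dim Y.obj.left : ℤ))
    (φ : ↥(T.gr Q m)) (ψ : ↥(T.gr Q' m')) (E : ∀ i : ℕ, Module.End K ↥(T.gr X (i : ℤ)))
    (hE : ∀ (i : ℕ) (a : ↥(T.gr X (i : ℤ))), (E i a : T.H X) =
      (act T p' q' m' ψ _ (act T p q m φ (i : ℤ) a) : T.H X)) :
    T.tr Q ((φ : T.H Q) * T.pull σ (ψ : T.H Q')) =
      ∑ i ∈ Finset.range (2 * WeilCoh.dim X.obj.left + 1),
        (-1 : K) ^ i * LinearMap.trace K ↥(T.gr X (i : ℤ)) (E i) := by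
  classical
  have hdQ := dim_prod_eq T p q hQ
  have hdQ' := dim_prod_eq T p' q' hQ'
  obtain ⟨n, e, f, hef⟩ := exists_dualBasis T X
  obtain ⟨φ', hφ', hact⟩ := exists_class_of_maps T hQ n e f hef m (fun i => act T p q m φ i)
  obtain rfl : φ' = φ := (act_bijective T hQ m).1 (funext fun i => LinearMap.ext (hact i))
  conv_lhs => rw [hφ']
  simp only [Finset.sum_mul, map_sum, smul_mul_assoc, map_smul, smul_eq_mul]
  refine Finset.sum_congr rfl fun r _ => ?_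
  rw [LinearMap.trace_eq_matrix_trace K (e (r : ℤ)), Matrix.trace, Finset.mul_sum]
  refine Finset.sum_congr rfl fun l _ => ?_
  rw [Matrix.diag_apply, LinearMap.toMatrix_apply, repr_eq_tr T X (e (r : ℤ)) (f (r : ℤ)) (hef (r : ℤ)), hE]
  set w := act T p q m φ' (r : ℤ) (e (r : ℤ) l)
  set y := act T p' q' m' ψ _ w
  have hz : T.pull p (f (r : ℤ) l : T.H X) * T.pull q (w : T.H Y) * T.pull σ (ψ : T.H Q') =
      T.pull σ (T.pull q' (f (r : ℤ) l : T.H X) * (T.pull p' (w : T.H Y) * (ψ : T.H Q'))) := by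
    rw [map_mul, map_mul, ← AlgHom.comp_apply (T.pull σ) (T.pull q'), ← AlgHom.comp_apply (T.pull σ) (T.pull p'),
      ← T.pull_comp, ← T.pull_comp, hσ₁, hσ₂, mul_assoc]
  rw [hz, tr_pull_swap T hQ hQ' σ hσ₁ hσ₂,
    tr_comm T Q' (T.pull_mem q' _ _ (f (r : ℤ) l).2) (SetLike.mul_mem_graded (A := T.gr Q') (T.pull_mem p' _ _ w.2) ψ.2),
    ← tr_act T p' q' m' ψ _ w (f (r : ℤ) l).2, tr_comm T X y.2 (f (r : ℤ) l).2, ← mul_assoc, ← mul_assoc]
  congr 1
  have hpar : ∀ A B : ℤ, (Even A ↔ Even (r : ℤ)) → (Even B ↔ Even (r : ℤ)) → sgn K A B = sgn K (r : ℤ) (r : ℤ) := by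
    intro A B hA hB
    rw [sgn_eq, sgn_eq]; exact if_congr (or_congr hA hB) rfl rfl
  have he : Even (2 * (WeilCoh.dim X.obj.left : ℤ) - r) ↔ Even (r : ℤ) := by
    rw [Int.even_sub]; simp [even_two_mul]
  rw [hpar _ _ Iff.rfl he, hpar _ _ he (by simp only [Int.even_iff]; omega),
    hpar _ _ (by simp only [Int.even_iff]; omega) he, sgn_mul_self, one_mul]
  show (-1 : K) ^ ((r : ℤ).natAbs * (r : ℤ).natAbs) = _
  rcases Nat.even_or_odd r with h | h
  · rw [h.neg_one_pow]; exact Even.neg_one_pow (by simpa using h.mul_left r)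
  · rw [h.neg_one_pow]; exact Odd.neg_one_pow (by simpa using h.mul h)

end Groth.Agent.H27Weil
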