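import Groth.Agent.H27Weil.Corr
import Groth.Agent.H27Weil.ZetaFormula
import Mathlib

/-!
# Algebraic correspondences
-/

set_option autoImplicit false
universe u v w

noncomputable section

open CategoryTheory AlgebraicGeometry WeilCoh TopologicalSpace

namespace Groth.Agent.H27Weil

variable {k : Type u} [Field k] [IsAlgClosed k] {K : Type v} [Field K] [CharZero K] (T : Theory.{u, v} k K)

/-- The classes of algebraic cycles are stable under pull-back along an automorphism. -/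
theorem pull_iso_mem_span {X Y : Var k} (σ : X ⟶ Y) [IsIso (sm σ)] {z : T.H Y}
    (hz : z ∈ Submodule.span K (Set.range (T.cl Y))) :
    T.pull σ z ∈ Submodule.span K (Set.range (T.cl X)) := by
  refine Submodule.span_induction (p := fun z _ => T.pull σ z ∈ Submodule.span K (Set.range (T.cl X)))
    ?_ (by rw [map_zero]; exact zero_mem _) (fun a b _ _ ha hb => by rw [map_add]; exact add_mem ha hb)
    (fun c a _ ha => by rw [map_smul]; exact Submodule.smul_mem _ _ ha) hz
  rintro _ ⟨ξ, rfl⟩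
  let h := (sm σ).homeomorph
  have hcomp : ∀ w : X.obj.left, IsCompPt ((sm σ) ⁻¹' closure ({ξ} : Set Y.obj.left)) w → sm σ w = ξ := by
    intro w hw
    obtain ⟨w₀, hw₀⟩ := h.surjective ξ
    have hw₀' : sm σ w₀ = ξ := hw₀
    have h1 : w₀ ⤳ w := h.isInducing.specializes_iff.mp (by
      show sm σ w₀ ⤳ sm σ w
      rw [hw₀']
      exact specializes_iff_mem_closure.mpr hw.1)
    have := hw.2 w₀ (show sm σ w₀ ∈ closure ({ξ} : Set Y.obj.left) from hw₀'.symm ▸ subset_closure rfl) h1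
    rw [← this, hw₀']
  have hdim : WeilCoh.dim X.obj.left = WeilCoh.dim Y.obj.left := natDim_congr h
  rw [T.cl_pull σ ξ (fun w hw => by
      rw [hdim, ← hcomp w hw, pdim_map_of_isClosedImmersion]; ring)
    (Or.inl ⟨⊤, fun _ _ => trivial, inferInstance⟩)]
  refine finsum_induction (· ∈ Submodule.span K (Set.range (T.cl X))) (zero_mem _) (fun a b => add_mem)
    (fun w => Submodule.smul_mem _ _ (Submodule.subset_span ⟨_, rfl⟩))

theorem swap_involutive {X Q : Var k} {p q : Q ⟶ X} (hQ : IsProd p q) (σ : Q ⟶ Q) (hσp : σ ≫ p = q)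
    (hσq : σ ≫ q = p) :
    σ ≫ σ = 𝟙 Q ∧ IsIso (sm σ) := by
  have h : σ ≫ σ = 𝟙 Q := by
    apply hom_ext_sm
    apply hQ.hom_ext
    · rw [← sm_comp, Category.assoc, hσp, hσq]; exact (Category.id_comp _).symm
    · rw [← sm_comp, Category.assoc, hσq, hσp]; exact (Category.id_comp _).symm
  have hs : sm σ ≫ sm σ = 𝟙 _ := by rw [← sm_comp, h]; rfl
  exact ⟨h, ⟨sm σ, hs, hs⟩⟩

/-- Key step of semisimplicity. -/
theorem tr_mul_eq_zero {X Q : Var k} {p q : Q ⟶ X} (hQ : IsProd p q) (σ : Q ⟶ Q) (hσp : σ ≫ p = q)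
    (hσq : σ ≫ q = p) (u v : ↥(T.gr Q (2 * (WeilCoh.dim X.obj.left : ℤ))))
    (hv : (v : T.H Q) ∈ Submodule.span K (Set.range (T.cl Q)))
    (A : ↥(T.gr Q (2 * (WeilCoh.dim X.obj.left : ℤ))) →
      (∀ i : Fin (2 * WeilCoh.dim X.obj.left + 1), Module.End K ↥(T.gr X ((i : ℕ) : ℤ))))
    (hA : ∀ w i a, (A w i a : T.H X) = (act T p q _ w ((i : ℕ) : ℤ) a : T.H X))
    (hJ : ∀ w : ↥(T.gr Q (2 * (WeilCoh.dim X.obj.left : ℤ))), (w : T.H Q) ∈ Submodule.span K (Set.range (T.cl Q)) → IsNilpotent (A w * A u)) :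
    T.tr Q ((u : T.H Q) * (v : T.H Q)) = 0 := by
  classical
  obtain ⟨hσσ, hiso⟩ := swap_involutive hQ σ hσp hσq
  let ψ : ↥(T.gr Q (2 * (WeilCoh.dim X.obj.left : ℤ))) := ⟨T.pull σ v, T.pull_mem σ _ v v.2⟩
  have hv' : (v : T.H Q) = T.pull σ (ψ : T.H Q) := by
    show _ = T.pull σ (T.pull σ (v : T.H Q))
    rw [← AlgHom.comp_apply, ← T.pull_comp, hσσ, T.pull_id]; rfl
  have hψ : (ψ : T.H Q) ∈ Submodule.span K (Set.range (T.cl Q)) := pull_iso_mem_span T σ hv
  obtain ⟨N, hN⟩ := hJ ψ hψ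
  let E : ∀ i : ℕ, Module.End K ↥(T.gr X (i : ℤ)) := fun i =>
    if h : i < 2 * WeilCoh.dim X.obj.left + 1 then A ψ ⟨i, h⟩ * A u ⟨i, h⟩ else 0
  have hact : ∀ (i j : ℤ) (h : i = j) (w : ↥(T.gr Q (2 * (WeilCoh.dim X.obj.left : ℤ)))) (a : ↥(T.gr X i))
      (b : ↥(T.gr X j)), (a : T.H X) = b → (act T p q _ w i a : T.H X) = act T p q _ w j b := by
    intro i j h w a b hab
    subst h
    rw [Subtype.ext hab]
  have hd := dim_prod_eq T p q hQ
  rw [hv', tr_mul_pull_swap T hQ hQ σ hσp hσq (by ring) u ψ E ?_]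
  · refine Finset.sum_eq_zero fun i hi => ?_
    have hi' := Finset.mem_range.mp hi
    have hnil : IsNilpotent (E i) := ⟨N, by
      have := congrFun hN ⟨i, hi'⟩
      simp only [E, dif_pos hi']
      exact this⟩
    rw [(LinearMap.isNilpotent_trace_of_isNilpotent hnil).eq_zero, mul_zero]
  · intro i a
    by_cases hi : i < 2 * WeilCoh.dim X.obj.left + 1
    · simp only [E, dif_pos hi, Module.End.mul_apply]
      rw [hA ψ ⟨i, hi⟩]
      exact hact _ _ (by simp only; rw [hd]; push_cast; ring) ψ _ _ (hA u ⟨i, hi⟩ a)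
    · have ha : a = 0 := Subtype.ext (eq_bot_of_degree T X (Or.inr (by omega)) a.2)
      simp [ha]

/-- The transposed graph of `G` acts as `G*`. -/
theorem exists_graph_class {X Q : Var k} {p q : Q ⟶ X} (hQ : IsProd p q) (G : X ⟶ X) :
    ∃ u : ↥(T.gr Q (2 * (WeilCoh.dim X.obj.left : ℤ))),
      (u : T.H Q) ∈ Submodule.span K (Set.range (T.cl Q)) ∧
      ∀ (i : ℤ) (b : ↥(T.gr X i)), (act T p q _ u i b : T.H X) = T.pull G (b : T.H X) := by
  let l := hQ.lift (sm G) (𝟙 X.obj.left) (by rw [Category.id_comp, sm_hom])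
  have hl : l ≫ Q.obj.hom = X.obj.hom := by
    rw [← sm_hom q, ← Category.assoc, hQ.lift_snd, Category.id_comp]
  let j := homOfSm (X := X) (Y := Q) l hl
  have hjp : j ≫ p = G := hom_ext_sm (hQ.lift_fst _ _ _)
  have hjq : j ≫ q = 𝟙 X := hom_ext_sm (hQ.lift_snd _ _ _)
  have hd := dim_prod_eq T p q hQ
  have hmem : T.cl Q (sm j (genericPoint ↥X.obj.left)) ∈ T.gr Q (2 * (WeilCoh.dim X.obj.left : ℤ)) := by
    have := T.cl_mem Q (sm j (genericPoint ↥X.obj.left))
    rw [codim_cast, pdim_section hjq, pdim_genericPoint, hd] at this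
    convert this using 2
    push_cast; ring
  refine ⟨⟨_, hmem⟩, Submodule.subset_span ⟨_, rfl⟩, fun i b => ?_⟩
  refine push_eq T q _ _ ?_ fun y hy => ?_
  · have := T.pull_mem G i b b.2
    convert this using 2
    rw [hd]; push_cast; ring
  · have hm := SetLike.mul_mem_graded (A := T.gr Q) (T.pull_mem p i b b.2) (T.pull_mem q _ y hy)
    have hcomm : T.pull p (b : T.H X) * T.cl Q (sm j (genericPoint ↥X.obj.left)) =
        T.cl Q (sm j (genericPoint ↥X.obj.left)) * T.pull p (b : T.H X) := by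
      have he : Even (2 * (codim Q.obj.left (sm j (genericPoint ↥X.obj.left)) : ℤ)).natAbs := by
        rw [Int.natAbs_even]; exact even_two_mul _
      rw [T.gradedComm Q i _ _ _ (T.pull_mem p i b b.2) (T.cl_mem Q _), (he.mul_left _).neg_one_pow, one_smul]
    show _ = T.tr Q (T.pull p (b : T.H X) * T.cl Q (sm j (genericPoint ↥X.obj.left)) * T.pull q y)
    rw [hcomm, mul_assoc, tr_cl_section T hjq _ hm, cl_genericPoint, one_mul, map_mul (T.pull j),
      ← AlgHom.comp_apply (T.pull j) (T.pull q), ← AlgHom.comp_apply (T.pull j) (T.pull p),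
      ← T.pull_comp, ← T.pull_comp, hjq, hjp, T.pull_id, AlgHom.id_apply]

/-- Künneth projectors from an endomorphism separating the degrees. -/
theorem exists_projector {X Q : Var k} {p q : Q ⟶ X} (hQ : IsProd p q) (F : X ⟶ X)
    (hF : ∀ i j : ℤ, i ≠ j → IsCoprime (T.pullDeg F i).charpoly (T.pullDeg F j).charpoly) (i : ℤ) :
    ∃ u : ↥(T.gr Q (2 * (WeilCoh.dim X.obj.left : ℤ))),
      (u : T.H Q) ∈ Submodule.span K (Set.range (T.cl Q)) ∧
        ∀ (j : ℤ) (b : ↥(T.gr X j)),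
          (act T p q _ u j b : T.H X) = if j = i then (b : T.H X) else 0 := by
  classical
  let S := (Finset.Icc (0 : ℤ) (2 * (WeilCoh.dim X.obj.left : ℤ))).erase i
  obtain ⟨s, t, hst⟩ : IsCoprime (T.pullDeg F i).charpoly (∏ j ∈ S, (T.pullDeg F j).charpoly) :=
    IsCoprime.prod_right fun j hj => hF i j (Finset.ne_of_mem_erase hj).symm
  set Pl := t * ∏ j ∈ S, (T.pullDeg F j).charpoly with hPl
  choose g hg1 hg2 using fun m : ℕ => exists_graph_class T hQ (fpow F m)
  refine ⟨∑ m ∈ Finset.range (Pl.natDegree + 1), Pl.coeff m • g m, ?_, fun j b => ?_⟩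
  · rw [AddSubmonoidClass.coe_finsetSum]
    exact Submodule.sum_mem _ fun m _ => Submodule.smul_mem _ _ (hg1 m)
  have hact : (act T p q _ (∑ m ∈ Finset.range (Pl.natDegree + 1), Pl.coeff m • g m) j b : T.H X) =
      (Polynomial.aeval (T.pullDeg F j) Pl b : T.H X) := by
    let L : ↥(T.gr Q (2 * (WeilCoh.dim X.obj.left : ℤ))) →ₗ[K] T.H X :=
      { toFun := fun φ => (act T p q _ φ j b : T.H X)
        map_add' := fun φ φ' => by rw [act_add]; rfl
        map_smul' := fun c φ => by rw [act_smul]; rfl }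
    show L _ = _
    rw [map_sum, Polynomial.aeval_eq_sum_range, LinearMap.sum_apply, AddSubmonoidClass.coe_finsetSum]
    refine Finset.sum_congr rfl fun m _ => ?_
    rw [map_smul, LinearMap.smul_apply, SetLike.val_smul, ← pullDeg_fpow]
    show Pl.coeff m • (act T p q _ (g m) j b : T.H X) = _
    rw [hg2]
    rfl
  rw [hact]
  split_ifs with hji
  · subst hji
    have h1 : Pl = 1 - s * (T.pullDeg F j).charpoly := eq_sub_of_add_eq' hst
    rw [h1, map_sub, map_one, map_mul, LinearMap.aeval_self_charpoly, mul_zero]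
    simp
  · by_cases hj : 0 ≤ j ∧ j ≤ 2 * (WeilCoh.dim X.obj.left : ℤ)
    · have hmem : j ∈ S := Finset.mem_erase.mpr ⟨hji, Finset.mem_Icc.mpr hj⟩
      rw [hPl, ← Finset.mul_prod_erase _ _ hmem, map_mul, map_mul, LinearMap.aeval_self_charpoly,
        zero_mul, mul_zero]
      rfl
    · exact eq_bot_of_degree T X (by omega) (Polynomial.aeval (T.pullDeg F j) Pl b).2

end Groth.Agent.H27Weil
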