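import Groth.Agent.H27Weil.Dimension
import Groth.Prelude.Def_ChowOps
import Mathlib

/-!
# Classes of cycles
-/

set_option autoImplicit false
universe u v w

noncomputable section

open CategoryTheory AlgebraicGeometry WeilCoh TopologicalSpace

namespace Groth.Agent.H27Weil

open Groth.Agent.H8Props.FieldDim

variable {k : Type u} [Field k]

theorem delta_eq_pdim (X : Var k) (δ : X.obj.left → ℤ)
    (hδ : Cyc.DeltaCompat X.obj.hom δ (fun _ => 0)) (x : X.obj.left) :
    δ x = pdim X.obj.left x := by
  let f := X.obj.hom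
  let φ := Spec.preimage (X.obj.left.fromSpecResidueField x ≫ f)
  let ψ := Spec.preimage ((Spec (CommRingCat.of k)).fromSpecResidueField (f x))
  letI aX : Algebra k (X.obj.left.residueField x) := φ.hom.toAlgebra
  letI aP : Algebra k ((Spec (CommRingCat.of k)).residueField (f x)) := ψ.hom.toAlgebra
  letI aXP : Algebra ((Spec (CommRingCat.of k)).residueField (f x)) (X.obj.left.residueField x) :=
    (f.residueFieldMap x).hom.toAlgebra
  have hcomp : φ = ψ ≫ f.residueFieldMap x := by
    apply Spec.map_injective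
    rw [Spec.map_comp, Spec.map_preimage, Spec.map_preimage,
      Scheme.Hom.SpecMap_residueFieldMap_fromSpecResidueField]
  haveI : IsScalarTower k ((Spec (CommRingCat.of k)).residueField (f x)) (X.obj.left.residueField x) :=
    IsScalarTower.of_algebraMap_eq fun c => by
      show φ.hom c = (f.residueFieldMap x).hom (ψ.hom c)
      rw [hcomp]; rfl
  obtain ⟨t, ht, ht'⟩ := exists_trdeg (𝟙 (Spec (CommRingCat.of k)))
    (L := (Spec (CommRingCat.of k)).residueField (f x))
    ((Spec (CommRingCat.of k)).fromSpecResidueField (f x))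
    (by rw [Category.comp_id]; exact (Spec.map_preimage _).symm) (IsLocalRing.closedPoint _)
  erw [Scheme.fromSpecResidueField_apply] at ht
  obtain ⟨s, hs, hs'⟩ := exists_trdeg f (L := X.obj.left.residueField x)
    (X.obj.left.fromSpecResidueField x) (Spec.map_preimage _).symm (IsLocalRing.closedPoint _)
  erw [Scheme.fromSpecResidueField_apply] at hs
  rw [cdim_eq_pdim] at hs
  have ht0 : t = 0 := by
    haveI : Subsingleton ↥(Spec (CommRingCat.of k)) := inferInstanceAs (Subsingleton (PrimeSpectrum k))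
    have h := topologicalKrullDim_zero_of_discreteTopology ↥(closure ({f x} : Set (Spec (CommRingCat.of k))))
    rw [show topologicalKrullDim ↥(closure ({f x} : Set (Spec (CommRingCat.of k)))) = (t : WithBot ℕ∞) from ht] at h
    exact Nat.le_zero.mp (by exact_mod_cast h)
  obtain ⟨n, hn, hδx⟩ := hδ x
  have hadd := trdeg_add_eq k ((Spec (CommRingCat.of k)).residueField (f x)) (A := X.obj.left.residueField x)
  rw [ht', ht0, Nat.cast_zero, zero_add, hs'] at hadd
  have hns : (n : Cardinal.{u}) = (s : Cardinal.{u}) := hn.symm.trans hadd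
  have : n = s := by exact_mod_cast hns
  have h1 : pdim X.obj.left x = s := by exact_mod_cast hs
  rw [hδx, zero_add, this, h1]

theorem isClosed_of_pdim_eq_zero (X : Var k) {x : X.obj.left} (h : pdim X.obj.left x = 0) :
    IsClosed ({x} : Set X.obj.left) := by
  have : closure ({x} : Set X.obj.left) = {x} := by
    refine Set.Subset.antisymm (fun y hy => ?_) subset_closure
    by_contra hne
    have := pdim_lt X (specializes_iff_mem_closure.mpr hy) (fun h' => hne (by simp [h']))
    omega
  rw [← this]; exact isClosed_closure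

theorem support_finite (X : Var k) (α : AlgebraicCycle X.obj.left ℤ) : (Function.support α).Finite := by
  haveI : CompactSpace ↥X.obj.left := (quasiCompact_iff_compactSpace X.obj.hom).mp inferInstance
  simpa using α.locallyFiniteSupport.finite_inter_support_of_isCompact isCompact_univ

variable [IsAlgClosed k] {K : Type v} [Field K] [CharZero K] (T : Theory.{u, v} k K)

theorem clCyc_eq_sum (X : Var k) (α : AlgebraicCycle X.obj.left ℤ) (s : Finset X.obj.left)
    (hs : Function.support α ⊆ s) : T.clCyc X α = ∑ x ∈ s, ((α x : ℤ) : K) • T.cl X x := by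
  refine finsum_eq_sum_of_support_subset _ fun x hx => hs ?_
  simp only [Function.mem_support, ne_eq] at hx ⊢
  exact fun h => hx (by rw [h, Int.cast_zero, zero_smul])

theorem tr_cl_mul_pull {X Y : Var k} (f : X ⟶ Y) (δX : X.obj.left → ℤ)
    (hδX : Cyc.DeltaCompat X.obj.hom δX (fun _ => 0)) (δY : Y.obj.left → ℤ)
    (hδY : Cyc.DeltaCompat Y.obj.hom δY (fun _ => 0)) (x : X.obj.left) (b : T.H Y) :
    (AlgebraicCycle.mapCoeff (sm f) δX δY x : K) * T.tr Y (T.cl Y (sm f x) * b) =
      T.tr X (T.cl X x * T.pull f b) := by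
  induction b using hom_induction' T Y with
  | add a b ha hb => rw [map_add (T.pull f), mul_add, mul_add, map_add, map_add, mul_add, ha, hb]
  | hom i b hb =>
    unfold AlgebraicCycle.mapCoeff
    rw [delta_eq_pdim X δX hδX, delta_eq_pdim Y δY hδY]
    by_cases hi : i = 2 * (pdim X.obj.left x : ℤ)
    · subst hi
      rw [T.cl_push f x b hb]
      split_ifs with heq
      · rfl
      · have h0 : (sm f).residueDegree x = 0 := by
          by_contra hne
          exact heq (by rw [pdim_map_eq f x hne])
        rw [h0]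
    · rw [T.tr_vanish X _ _ (SetLike.mul_mem_graded (A := T.gr X) (T.cl_mem X x) (T.pull_mem f i b hb))
        (by rw [codim_cast]; omega)]
      split_ifs with heq
      · rw [T.tr_vanish Y _ _ (SetLike.mul_mem_graded (A := T.gr Y) (T.cl_mem Y (sm f x)) hb)
          (by
            have heq' : (pdim X.obj.left x : ℤ) = pdim Y.obj.left (sm f x) := heq
            rw [codim_cast]; omega), mul_zero]
      · rw [Nat.cast_zero, zero_mul]
where
  hom_induction' (T : Theory.{u, v} k K) (X : Var k) {C : T.H X → Prop}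
      (hom : ∀ i, ∀ a ∈ T.gr X i, C a) (add : ∀ a b, C a → C b → C (a + b)) (a : T.H X) : C a := by
    have ha : a ∈ (⨆ i, T.gr X i) := by
      rw [(T.decomp X).submodule_iSup_eq_top]; trivial
    exact Submodule.iSup_induction (T.gr X) (motive := C) ha hom (hom 0 0 (zero_mem _)) add

theorem tr_clCyc_map {X Y : Var k} (f : X ⟶ Y) [QuasiCompact (sm f)]
    (δX : X.obj.left → ℤ) (hδX : Cyc.DeltaCompat X.obj.hom δX (fun _ => 0)) (δY : Y.obj.left → ℤ)
    (hδY : Cyc.DeltaCompat Y.obj.hom δY (fun _ => 0)) (α : AlgebraicCycle X.obj.left ℤ) (b : T.H Y) :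
    T.tr Y (T.clCyc Y (AlgebraicCycle.map (sm f) δX δY α) * b) =
      T.tr X (T.clCyc X α * T.pull f b) := by
  classical
  set s := (support_finite X α).toFinset with hs
  have hval : ∀ y, (AlgebraicCycle.map (sm f) δX δY α) y =
      ∑ x ∈ s with sm f x = y, α x * (AlgebraicCycle.mapCoeff (sm f) δX δY x : ℤ) := by
    intro y
    show (∑ᶠ x ∈ (sm f) ⁻¹' {y}, α x * (AlgebraicCycle.mapCoeff (sm f) δX δY x : ℤ)) = _
    refine finsum_mem_eq_sum_of_inter_support_eq _ ?_
    ext x
    simp only [Set.mem_inter_iff, Set.mem_preimage, Set.mem_singleton_iff, Function.mem_support,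
      Finset.coe_filter, Set.mem_ofPred_eq, hs, Set.Finite.mem_toFinset, ne_eq, mul_eq_zero, not_or]
    tauto
  rw [clCyc_eq_sum T X α s (by simp [hs]),
    clCyc_eq_sum T Y _ (s.image (sm f)) (fun y hy => by
      rw [Function.mem_support, hval] at hy
      obtain ⟨x, hx, -⟩ := Finset.exists_ne_zero_of_sum_ne_zero hy
      rw [Finset.mem_filter] at hx
      exact Finset.mem_image.mpr ⟨x, hx.1, hx.2⟩)]
  simp only [Finset.sum_mul, smul_mul_assoc, map_sum, map_smul, smul_eq_mul]
  rw [← Finset.sum_fiberwise_of_maps_to (g := sm f) (t := s.image (sm f))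
    (fun x hx => Finset.mem_image_of_mem _ hx)]
  refine Finset.sum_congr rfl fun y _ => ?_
  rw [hval, Int.cast_sum, Finset.sum_mul]
  refine Finset.sum_congr rfl fun x hx => ?_
  rw [Finset.mem_filter] at hx
  rw [← hx.2, Int.cast_mul, Int.cast_natCast, mul_assoc, tr_cl_mul_pull T f δX hδX δY hδY]

theorem residueDegree_hom_closed (X : Var k) {x : X.obj.left} (hx : IsClosed ({x} : Set X.obj.left)) :
    X.obj.hom.residueDegree x = 1 := by
  obtain ⟨c, hcomp, η, hc⟩ : ∃ c : Spec (CommRingCat.of k) ⟶ X.obj.left,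
      c ≫ X.obj.hom = 𝟙 _ ∧ ∃ η, c η = x :=
    ⟨pointOfClosedPoint X.obj.hom x hx, pointOfClosedPoint_comp _ _ _, IsLocalRing.closedPoint k,
      pointOfClosedPoint_apply X.obj.hom x hx _⟩
  subst hc
  have hb : Function.Surjective ((c ≫ X.obj.hom).residueFieldMap η).hom := by
    generalize hg : c ≫ X.obj.hom = g
    rw [hcomp] at hg
    subst hg
    rw [Scheme.residueFieldMap_id]
    exact fun a => ⟨a, rfl⟩
  rw [Scheme.residueFieldMap_comp] at hb
  have hsurj : Function.Surjective (X.obj.hom.residueFieldMap (c η)).hom := by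
    intro a
    obtain ⟨b, hb'⟩ := hb ((c.residueFieldMap η).hom a)
    exact ⟨b, (c.residueFieldMap η).hom.injective hb'⟩
  unfold Scheme.Hom.residueDegree
  letI := (X.obj.hom.residueFieldMap (c η)).hom.toAlgebra
  exact (LinearEquiv.ofBijective (Algebra.linearMap ((Spec (CommRingCat.of k)).residueField (X.obj.hom (c η)))
    (X.obj.left.residueField (c η)))
    ⟨(X.obj.hom.residueFieldMap (c η)).hom.injective, hsurj⟩).finrank_eq.symm.trans (Module.finrank_self _)

theorem deg_eq_tr (X : Var k) [QuasiCompact X.obj.hom] (δ : X.obj.left → ℤ)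
    (hδ : Cyc.DeltaCompat X.obj.hom δ (fun _ => 0)) (α : AlgebraicCycle X.obj.left ℤ)
    (hα : α ∈ Cyc.Zk X.obj.left δ 0) :
    (ChowOps.deg X.obj.hom δ α : K) = T.tr X (T.clCyc X α) := by
  classical
  set s := (support_finite X α).toFinset with hs
  haveI : Subsingleton ↥(Spec (CommRingCat.of k)) := inferInstanceAs (Subsingleton (PrimeSpectrum k))
  have hdeg : ChowOps.deg X.obj.hom δ α = ∑ x ∈ s, α x := by
    show (∑ᶠ x ∈ X.obj.hom ⁻¹' {IsLocalRing.closedPoint k},
      α x * (AlgebraicCycle.mapCoeff X.obj.hom δ (fun _ => (0 : ℤ)) x : ℤ)) = _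
    have h1 : ∀ x, α x * (AlgebraicCycle.mapCoeff X.obj.hom δ (fun _ => (0 : ℤ)) x : ℤ) = α x := by
      intro x
      by_cases h0 : α x = 0
      · rw [h0, zero_mul]
      · have hd : δ x = 0 := by_contra fun hne => h0 (hα x hne)
        have hp : pdim X.obj.left x = 0 := by
          rw [delta_eq_pdim X δ hδ] at hd; exact_mod_cast hd
        unfold AlgebraicCycle.mapCoeff
        rw [if_pos hd, residueDegree_hom_closed X (isClosed_of_pdim_eq_zero X hp), Nat.cast_one, mul_one]
    simp only [h1]
    refine finsum_mem_eq_sum_of_inter_support_eq _ ?_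
    ext x
    simp only [hs, Set.mem_inter_iff, Set.mem_preimage, Function.mem_support,
      Set.Finite.coe_toFinset]
    exact ⟨fun h => ⟨h.2, h.2⟩, fun h => ⟨@Subsingleton.elim _ this _ _, h.2⟩⟩
  rw [hdeg, clCyc_eq_sum T X α s (by simp [hs]), map_sum, Int.cast_sum]
  refine Finset.sum_congr rfl fun x hx => ?_
  have h0 : α x ≠ 0 := by simpa [hs] using hx
  have hd : δ x = 0 := by_contra fun hne => h0 (hα x hne)
  have hp : pdim X.obj.left x = 0 := by
    rw [delta_eq_pdim X δ hδ] at hd; exact_mod_cast hd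
  rw [map_smul, smul_eq_mul, tr_cl_eq_one T X (isClosed_of_pdim_eq_zero X hp), mul_one]

theorem isHomEquivZero_iff (X : Var k) [QuasiCompact X.obj.hom] (δ : X.obj.left → ℤ)
    (hδ : Cyc.DeltaCompat X.obj.hom δ (fun _ => 0)) (α : AlgebraicCycle X.obj.left ℤ)
    (hα : α ∈ Cyc.Zk X.obj.left δ 0) :
    T.IsHomEquivZero X α ↔ ChowOps.deg X.obj.hom δ α = 0 := by
  classical
  constructor
  · intro h
    have := deg_eq_tr T X δ hδ α hα
    rw [show T.clCyc X α = 0 from h, map_zero] at this
    exact_mod_cast this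
  · intro h
    have hmem : T.clCyc X α ∈ T.gr X (2 * (WeilCoh.dim X.obj.left : ℤ)) := by
      rw [clCyc_eq_sum T X α (support_finite X α).toFinset (by simp)]
      refine Submodule.sum_mem _ fun x hx => Submodule.smul_mem _ _ ?_
      have h0 : α x ≠ 0 := by simpa using hx
      have hd : δ x = 0 := by_contra fun hne => h0 (hα x hne)
      rw [delta_eq_pdim X δ hδ] at hd
      have := T.cl_mem X x
      rwa [codim_cast, hd, sub_zero] at this
    have h2 : T.tr X (T.clCyc X α) = 0 := by
      rw [← deg_eq_tr T X δ hδ α hα, h, Int.cast_zero]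
    have := (T.tr_bijective X).1 (a₁ := ⟨_, hmem⟩) (a₂ := 0) (by simpa [LinearMap.domRestrict_apply] using h2)
    exact congrArg Subtype.val this

end Groth.Agent.H27Weil
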