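import Groth.Agent.H27Weil.Geometry
import Groth.Agent.H8Props.FieldDimScheme
import Mathlib

/-!
# Dimensions of points and the push-forward of classes
-/

set_option autoImplicit false
universe u v w

noncomputable section

open CategoryTheory AlgebraicGeometry WeilCoh TopologicalSpace

namespace Groth.Agent.H27Weil

open Groth.Agent.H8Props.FieldDim

variable {k : Type u} [Field k]

theorem cdim_eq_pdim (X : Var k) (x : X.obj.left) : cdim x = (pdim X.obj.left x : WithBot ℕ∞) := by
  obtain ⟨s, hs⟩ := exists_nat_cdim (k := k) X.obj.hom x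
  have : pdim X.obj.left x = s := by
    show ((topologicalKrullDim ↥(closure ({x} : Set X.obj.left))).unbotD 0).toNat = s
    rw [show topologicalKrullDim ↥(closure ({x} : Set X.obj.left)) = (s : WithBot ℕ∞) from hs]
    rfl
  rw [hs, this]

theorem pdim_lt (X : Var k) {x y : X.obj.left} (h : x ⤳ y) (hne : x ≠ y) :
    pdim X.obj.left y < pdim X.obj.left x := by
  have := cdim_lt (k := k) X.obj.hom h hne
  rw [cdim_eq_pdim, cdim_eq_pdim] at this
  exact_mod_cast this

theorem pdim_le_dim (X : Var k) (x : X.obj.left) : pdim X.obj.left x ≤ WeilCoh.dim X.obj.left := by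
  rw [← pdim_genericPoint]
  by_cases h : genericPoint ↥X.obj.left = x
  · rw [h]
  · exact (pdim_lt X (genericPoint_specializes x) h).le

theorem eq_genericPoint_of_pdim (X : Var k) {x : X.obj.left}
    (h : pdim X.obj.left x = WeilCoh.dim X.obj.left) : x = genericPoint ↥X.obj.left := by
  by_contra hne
  have := pdim_lt X (genericPoint_specializes x) (Ne.symm hne)
  rw [pdim_genericPoint, h] at this
  exact lt_irrefl _ this

theorem codim_cast (X : Var k) (x : X.obj.left) :
    (codim X.obj.left x : ℤ) = (WeilCoh.dim X.obj.left : ℤ) - pdim X.obj.left x :=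
  Nat.cast_sub (pdim_le_dim X x)

/-- A point and its image have the same dimension when the residue extension is finite. -/
theorem pdim_map_eq {X Y : Var k} (f : X ⟶ Y) (ξ : X.obj.left) (h : (sm f).residueDegree ξ ≠ 0) :
    pdim X.obj.left ξ = pdim Y.obj.left (sm f ξ) := by
  let φ := Spec.preimage (X.obj.left.fromSpecResidueField ξ ≫ X.obj.hom)
  let ψ := Spec.preimage (Y.obj.left.fromSpecResidueField (sm f ξ) ≫ Y.obj.hom)
  letI aX : Algebra k (X.obj.left.residueField ξ) := φ.hom.toAlgebra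
  letI aY : Algebra k (Y.obj.left.residueField (sm f ξ)) := ψ.hom.toAlgebra
  letI aXY : Algebra (Y.obj.left.residueField (sm f ξ)) (X.obj.left.residueField ξ) :=
    ((sm f).residueFieldMap ξ).hom.toAlgebra
  have hfin : 0 < Module.finrank (Y.obj.left.residueField (sm f ξ)) (X.obj.left.residueField ξ) :=
    Nat.pos_of_ne_zero h
  haveI : Module.Finite (Y.obj.left.residueField (sm f ξ)) (X.obj.left.residueField ξ) :=
    Module.finite_of_finrank_pos hfin
  haveI : Algebra.IsAlgebraic (Y.obj.left.residueField (sm f ξ)) (X.obj.left.residueField ξ) :=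
    Algebra.IsAlgebraic.of_finite _ _
  have hcomp : φ = ψ ≫ (sm f).residueFieldMap ξ := by
    apply Spec.map_injective
    rw [Spec.map_comp, Spec.map_preimage, Spec.map_preimage,
      Scheme.Hom.SpecMap_residueFieldMap_fromSpecResidueField_assoc, sm_hom]
  haveI : IsScalarTower k (Y.obj.left.residueField (sm f ξ)) (X.obj.left.residueField ξ) :=
    IsScalarTower.of_algebraMap_eq fun c => by
      show φ.hom c = ((sm f).residueFieldMap ξ).hom (ψ.hom c)
      rw [hcomp]; rfl
  obtain ⟨s, hs, hs'⟩ := exists_trdeg X.obj.hom (L := X.obj.left.residueField ξ)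
    (X.obj.left.fromSpecResidueField ξ) (Spec.map_preimage _).symm (IsLocalRing.closedPoint _)
  obtain ⟨t, ht, ht'⟩ := exists_trdeg Y.obj.hom (L := Y.obj.left.residueField (sm f ξ))
    (Y.obj.left.fromSpecResidueField (sm f ξ)) (Spec.map_preimage _).symm (IsLocalRing.closedPoint _)
  erw [Scheme.fromSpecResidueField_apply] at hs ht
  rw [cdim_eq_pdim] at hs ht
  have := trdeg_add_eq k (Y.obj.left.residueField (sm f ξ)) (A := X.obj.left.residueField ξ)
  rw [trdeg_eq_zero_iff.2 (inferInstance : Algebra.IsAlgebraic (Y.obj.left.residueField (sm f ξ)) (X.obj.left.residueField ξ)),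
    add_zero, hs', ht'] at this
  have : t = s := by exact_mod_cast this
  have h1 : pdim X.obj.left ξ = s := by exact_mod_cast hs
  have h2 : pdim Y.obj.left (sm f ξ) = t := by exact_mod_cast ht
  omega

variable [IsAlgClosed k] {K : Type v} [Field K] [CharZero K] (T : Theory.{u, v} k K)

/-- A section of a morphism is a closed immersion. -/
theorem isClosedImmersion_of_section {X Q : Var k} {j : X ⟶ Q} {p : Q ⟶ X} (hjp : j ≫ p = 𝟙 X) :
    IsClosedImmersion (sm j) := by
  haveI : IsSeparated (sm p ≫ X.obj.hom) := by rw [sm_hom]; infer_instance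
  haveI : IsSeparated (sm p) := IsSeparated.of_comp (sm p) X.obj.hom
  haveI : IsClosedImmersion (sm j ≫ sm p) := by
    rw [← sm_comp, hjp]
    show IsClosedImmersion (𝟙 _)
    infer_instance
  exact IsClosedImmersion.of_comp (sm j) (sm p)

theorem pdim_section {X Q : Var k} {j : X ⟶ Q} {p : Q ⟶ X} (hjp : j ≫ p = 𝟙 X) (η : X.obj.left) :
    pdim Q.obj.left (sm j η) = pdim X.obj.left η := by
  haveI := isClosedImmersion_of_section hjp
  exact pdim_map_of_isClosedImmersion (sm j) η

theorem residueDegree_section {X Q : Var k} {j : X ⟶ Q} {p : Q ⟶ X} (hjp : j ≫ p = 𝟙 X) (η : X.obj.left) :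
    (sm j).residueDegree η = 1 :=
  residueDegree_eq_one_of_section (sm j) (sm p) (by rw [← sm_comp, hjp]; rfl) η

/-- The class of the image under a section represents restriction along it. -/
theorem tr_cl_section {X Q : Var k} {j : X ⟶ Q} {p : Q ⟶ X} (hjp : j ≫ p = 𝟙 X) (η : X.obj.left)
    {i : ℤ} {b : T.H Q} (hb : b ∈ T.gr Q i) :
    T.tr Q (T.cl Q (sm j η) * b) = T.tr X (T.cl X η * T.pull j b) := by
  by_cases hi : i = 2 * (pdim X.obj.left η : ℤ)
  · subst hi
    rw [T.cl_push j η b hb, residueDegree_section hjp, Nat.cast_one, one_mul]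
  · have h1 := T.tr_vanish Q _ _ (SetLike.mul_mem_graded (A := T.gr Q) (T.cl_mem Q (sm j η)) hb)
    have h2 := T.tr_vanish X _ _ (SetLike.mul_mem_graded (A := T.gr X) (T.cl_mem X η) (T.pull_mem j i b hb))
    rw [h1 (by rw [codim_cast, pdim_section hjp]; omega), h2 (by rw [codim_cast]; omega)]

theorem push_cl {X Y : Var k} (f : X ⟶ Y) (ξ : X.obj.left) :
    (T.push f (2 * (codim X.obj.left ξ : ℤ)) ⟨T.cl X ξ, T.cl_mem X ξ⟩ : T.H Y) =
      ((sm f).residueDegree ξ : K) • T.cl Y (sm f ξ) := by
  have hc := codim_cast X ξ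
  by_cases h : (sm f).residueDegree ξ = 0
  · rw [h, Nat.cast_zero, zero_smul]
    refine push_eq_zero T f _ _ fun b hb => ?_
    have hb' : b ∈ T.gr Y (2 * (pdim X.obj.left ξ : ℤ)) := by
      convert hb using 2; omega
    rw [T.cl_push f ξ b hb', h, Nat.cast_zero, zero_mul]
  · refine push_eq T f _ _ ((T.gr Y _).smul_mem _ ?_) fun b hb => ?_
    · have := T.cl_mem Y (sm f ξ)
      convert this using 2
      rw [codim_cast Y, hc, pdim_map_eq f ξ h]; ring
    · have hb' : b ∈ T.gr Y (2 * (pdim X.obj.left ξ : ℤ)) := by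
        convert hb using 2; omega
      rw [T.cl_push f ξ b hb', smul_mul_assoc, map_smul, smul_eq_mul]

theorem tr_pull_of_dominant {X Y : Var k} (f : X ⟶ Y)
    (hdom : sm f (genericPoint ↥X.obj.left) = genericPoint ↥Y.obj.left)
    (hdim : WeilCoh.dim X.obj.left = WeilCoh.dim Y.obj.left) {a : T.H Y}
    (ha : a ∈ T.gr Y (2 * (WeilCoh.dim Y.obj.left : ℤ))) :
    T.tr X (T.pull f a) = ((sm f).residueDegree (genericPoint ↥X.obj.left) : K) * T.tr Y a := by
  have h := T.cl_push f (genericPoint ↥X.obj.left) a (by rwa [pdim_genericPoint, hdim])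
  rwa [hdom, cl_genericPoint, cl_genericPoint, one_mul, one_mul] at h

theorem pull_eq_push_graph {X Y Q : Var k} (f : X ⟶ Y) (p : Q ⟶ X) (q : Q ⟶ Y)
    (hQ : IsProd p q) (j : X ⟶ Q) (hjp : j ≫ p = 𝟙 X) (hjq : j ≫ q = f) (i : ℤ) (β : ↥(T.gr Y i)) :
    (T.push p (2 * (codim Q.obj.left (sm j (genericPoint ↥X.obj.left)) : ℤ) + i)
        ⟨T.cl Q (sm j (genericPoint ↥X.obj.left)) * T.pull q (β : T.H Y),
          SetLike.mul_mem_graded (T.cl_mem Q (sm j (genericPoint ↥X.obj.left)))
            (T.pull_mem q i β β.2)⟩ : T.H X) = T.pull f (β : T.H Y) := by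
  refine push_eq T p _ _ ?_ fun b hb => ?_
  · have := T.pull_mem f i β β.2
    convert this using 2
    rw [codim_cast, pdim_section hjp, pdim_genericPoint, dim_prod_eq T p q hQ]; push_cast; ring
  · have hm := SetLike.mul_mem_graded (A := T.gr Q) (T.pull_mem q i β β.2) (T.pull_mem p _ b hb)
    rw [mul_assoc, tr_cl_section T hjp _ hm, cl_genericPoint, one_mul, map_mul (T.pull j),
      ← AlgHom.comp_apply (T.pull j) (T.pull q), ← AlgHom.comp_apply (T.pull j) (T.pull p),
      ← T.pull_comp, ← T.pull_comp, hjq, hjp, T.pull_id, AlgHom.id_apply]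

theorem push_pull_mul_diagonal {X Q : Var k} (p q : Q ⟶ X) (hQ : IsProd p q) (dg : X ⟶ Q)
    (hdp : dg ≫ p = 𝟙 X) (hdq : dg ≫ q = 𝟙 X) (η : X.obj.left) (i : ℤ) (a : ↥(T.gr X i)) :
    (T.push q (i + 2 * (codim Q.obj.left (sm dg η) : ℤ))
        ⟨T.pull p (a : T.H X) * T.cl Q (sm dg η),
          SetLike.mul_mem_graded (T.pull_mem p i a a.2) (T.cl_mem Q (sm dg η))⟩ : T.H X) =
      (a : T.H X) * T.cl X η := by
  refine push_eq T q _ _ ?_ fun b hb => ?_
  · have := SetLike.mul_mem_graded (A := T.gr X) a.2 (T.cl_mem X η)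
    convert this using 2
    rw [codim_cast, codim_cast, pdim_section hdp, dim_prod_eq T p q hQ]; push_cast; ring
  · have hcomm : ∀ (Z : Var k) (z : Z.obj.left) {n : ℤ} {c : T.H Z}, c ∈ T.gr Z n →
        c * T.cl Z z = T.cl Z z * c := by
      intro Z z n c hc
      have he : Even ((2 * (codim Z.obj.left z : ℤ)).natAbs) := by
        rw [Int.natAbs_even]; exact even_two_mul _
      rw [T.gradedComm Z n _ c (T.cl Z z) hc (T.cl_mem Z z), (he.mul_left _).neg_one_pow, one_smul]
    have hm := SetLike.mul_mem_graded (A := T.gr Q) (T.pull_mem p i a a.2) (T.pull_mem q _ b hb)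
    show _ = T.tr Q (T.pull p (a : T.H X) * T.cl Q (sm dg η) * T.pull q b)
    conv_rhs => rw [hcomm Q (sm dg η) (T.pull_mem p i a a.2), mul_assoc]
    rw [ tr_cl_section T hdp _ hm,
      map_mul (T.pull dg), ← AlgHom.comp_apply (T.pull dg) (T.pull q),
      ← AlgHom.comp_apply (T.pull dg) (T.pull p),
      ← T.pull_comp, ← T.pull_comp, hdq, hdp, T.pull_id, AlgHom.id_apply, AlgHom.id_apply,
      hcomm X η a.2, mul_assoc]

end Groth.Agent.H27Weil
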