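import Groth.Agent.H27Weil.Trace
import Mathlib

/-!
# The trace formula for an endomorphism with vanishing cotangent map at its fixed points
-/

set_option autoImplicit false
universe u v w

noncomputable section

open CategoryTheory AlgebraicGeometry WeilCoh TopologicalSpace

namespace Groth.Agent.H27Weil

theorem specializes_of_comap_maximalIdeal {X : Scheme.{u}} {w' w : X} (h : w' ⤳ w)
    (hm : IsLocalRing.maximalIdeal (X.presheaf.stalk w) ≤
      (IsLocalRing.maximalIdeal (X.presheaf.stalk w')).comap (X.presheaf.stalkSpecializes h).hom) :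
    w ⤳ w' := by
  rw [specializes_iff_forall_open]
  intro V hV hw'
  by_contra hw
  obtain ⟨_, ⟨U, hU, rfl⟩, hwU, -⟩ := X.isBasis_affineOpens.exists_subset_of_mem_open (Set.mem_univ w) isOpen_univ
  have hw'U : w' ∈ U := h.mem_open U.2 hwU
  obtain ⟨a, haV, ha⟩ := hU.exists_basicOpen_le (V := ⟨V, hV⟩) (⟨w', hw'⟩ : (⟨V, hV⟩ : X.Opens)) hw'U
  have h1 : IsUnit ((X.presheaf.germ U w' hw'U).hom a) := (X.mem_basicOpen a w' hw'U).mp ha
  have h2 : (X.presheaf.germ U w hwU).hom a ∈ IsLocalRing.maximalIdeal _ :=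
    fun hu => hw (haV ((X.mem_basicOpen a w hwU).mpr hu))
  have h3 := hm h2
  rw [Ideal.mem_comap] at h3
  have h4 : (X.presheaf.stalkSpecializes h).hom ((X.presheaf.germ U w hwU).hom a) =
      (X.presheaf.germ U w' hw'U).hom a :=
    congrArg (fun t => t.hom a) (X.presheaf.germ_stalkSpecializes hwU h)
  rw [h4] at h3
  exact h3 h1

variable {k : Type u} [Field k] [IsAlgClosed k]

theorem point_comp_eq (X : Var k) (G : X ⟶ X) {w : X.obj.left} (hw : IsClosed ({w} : Set X.obj.left))
    (hG : sm G w = w) :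
    pointOfClosedPoint X.obj.hom w hw ≫ sm G = pointOfClosedPoint X.obj.hom w hw := by
  have h1 : (pointOfClosedPoint X.obj.hom w hw ≫ sm G) ≫ X.obj.hom = 𝟙 _ := by
    rw [Category.assoc, sm_hom, pointOfClosedPoint_comp]
  have h := (pointEquivClosedPoint X.obj.hom).injective (a₁ := ⟨_, h1⟩)
    (a₂ := ⟨_, pointOfClosedPoint_comp X.obj.hom w hw⟩) (by
      apply Subtype.ext
      have e := fun pt => pointOfClosedPoint_apply X.obj.hom w hw pt
      exact ((congrArg (sm G) (e _)).trans hG).trans (e _).symm)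
  exact congrArg Subtype.val h

section

variable {X Q : Var k} {G : X ⟶ X} {p q : Q ⟶ X} (hQ : IsProd p q) {j dg : X ⟶ Q}
  (hjp : j ≫ p = 𝟙 X) (hjq : j ≫ q = G) (hdp : dg ≫ p = 𝟙 X) (hdq : dg ≫ q = 𝟙 X)

include hjp in
theorem closure_graph :
    closure ({sm j (genericPoint ↥X.obj.left)} : Set Q.obj.left) = Set.range (sm j) := by
  haveI := isClosedImmersion_of_section hjp
  rw [← Set.image_singleton, (sm j).isClosedEmbedding.closure_image_eq,
    show closure ({genericPoint ↥X.obj.left} : Set X.obj.left) = Set.univ from genericPoint_spec ↥X.obj.left,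
    Set.image_univ]

include hjp hjq hdp hdq in
theorem fixed_of_mem {w : X.obj.left}
    (hw : sm dg w ∈ closure ({sm j (genericPoint ↥X.obj.left)} : Set Q.obj.left)) : sm G w = w := by
  rw [closure_graph hjp] at hw
  obtain ⟨x, hx⟩ := hw
  have hp : x = w := by
    have := congrArg (sm p) hx
    rw [← Scheme.Hom.comp_apply, ← Scheme.Hom.comp_apply, ← sm_comp, ← sm_comp, hjp, hdp] at this
    exact this
  have hq := congrArg (sm q) hx
  rw [← Scheme.Hom.comp_apply, ← Scheme.Hom.comp_apply, ← sm_comp, ← sm_comp, hjq, hdq, hp] at hq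
  exact hq

include hQ hjp hjq hdp hdq in
theorem mem_of_fixed {w : X.obj.left} (hw : IsClosed ({w} : Set X.obj.left)) (hG : sm G w = w) :
    sm dg w ∈ closure ({sm j (genericPoint ↥X.obj.left)} : Set Q.obj.left) := by
  rw [closure_graph hjp]
  have h : pointOfClosedPoint X.obj.hom w hw ≫ sm j = pointOfClosedPoint X.obj.hom w hw ≫ sm dg := by
    apply hQ.hom_ext
    · rw [Category.assoc, Category.assoc, ← sm_comp, ← sm_comp, hjp, hdp]
    · rw [Category.assoc, Category.assoc, ← sm_comp, ← sm_comp, hjq, hdq, point_comp_eq X G hw hG]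
      exact (Category.comp_id _).symm
  refine ⟨w, ?_⟩
  let pt : ↥(Spec (CommRingCat.of k)) := IsLocalRing.closedPoint k
  have := congrArg (fun t : Spec (CommRingCat.of k) ⟶ Q.obj.left => t pt) h
  dsimp only at this
  rwa [Scheme.Hom.comp_apply, Scheme.Hom.comp_apply, pointOfClosedPoint_apply] at this

variable (hzero : ∀ w : X.obj.left, IsClosed ({w} : Set X.obj.left) → sm G w = w →
    ∀ a ∈ IsLocalRing.maximalIdeal (X.obj.left.presheaf.stalk (sm G w)),
      ((sm G).stalkMap w).hom a ∈ IsLocalRing.maximalIdeal (X.obj.left.presheaf.stalk w) ^ 2)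

include hjp hjq hdp hdq hzero in
theorem ideal_fixed {w : X.obj.left} (hw : IsClosed ({w} : Set X.obj.left))
    (hmem : sm dg w ∈ closure ({sm j (genericPoint ↥X.obj.left)} : Set Q.obj.left)) :
    Ideal.map ((sm dg).stalkMap w).hom
      (RingHom.ker (Cyc.specMap (sm dg w) (sm j (genericPoint ↥X.obj.left))
        (specializes_iff_mem_closure.mpr hmem))) = IsLocalRing.maximalIdeal (X.obj.left.presheaf.stalk w) := by
  have hG := fixed_of_mem hjp hjq hdp hdq hmem
  set η := genericPoint ↥X.obj.left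
  set hspec := specializes_iff_mem_closure.mpr hmem
  set J := Ideal.map ((sm dg).stalkMap w).hom
    (RingHom.ker (Cyc.specMap (sm dg w) (sm j η) hspec)) with hJ
  apply le_antisymm
  · exact (Ideal.map_mono (IsLocalRing.le_maximalIdeal (RingHom.ker_ne_top _))).trans
      (IsLocalRing.map_maximalIdeal_le _)
  haveI : IsLocallyNoetherian X.obj.left := LocallyOfFiniteType.isLocallyNoetherian X.obj.hom
  haveI : IsNoetherianRing (X.obj.left.presheaf.stalk w) := inferInstance
  refine Submodule.le_of_le_smul_of_le_jacobson_bot (I := IsLocalRing.maximalIdeal _)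
    (Ideal.fg_of_isNoetherianRing _) (by rw [IsLocalRing.jacobson_eq_maximalIdeal]; exact bot_ne_top) ?_
  rw [Ideal.smul_eq_mul, ← pow_two]
  obtain ⟨_, ⟨U, hU, rfl⟩, hwU, -⟩ :=
    X.obj.left.isBasis_affineOpens.exists_subset_of_mem_open (Set.mem_univ w) isOpen_univ
  have hgen : IsLocalRing.maximalIdeal (X.obj.left.presheaf.stalk w) =
      (hU.primeIdealOf ⟨w, hwU⟩).asIdeal.map (X.obj.left.presheaf.germ U w hwU).hom := by
    letI : Algebra Γ(X.obj.left, U) (X.obj.left.presheaf.stalk w) := (X.obj.left.presheaf.germ U w hwU).hom.toAlgebra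
    haveI := hU.isLocalization_stalk ⟨w, hwU⟩
    exact (IsLocalization.AtPrime.map_eq_maximalIdeal (hU.primeIdealOf ⟨w, hwU⟩).asIdeal
      (X.obj.left.presheaf.stalk w)).symm
  have ha_nu : ∀ a ∈ (hU.primeIdealOf ⟨w, hwU⟩).asIdeal,
      (X.obj.left.presheaf.germ U w hwU).hom a ∈ IsLocalRing.maximalIdeal _ := fun a ha =>
    hgen ▸ Ideal.mem_map_of_mem _ ha
  conv_lhs => rw [hgen]
  rw [Ideal.map_le_iff_le_comap]
  intro a ha
  rw [Ideal.mem_comap]
  let W : Q.obj.left.Opens := (sm p ≫ sm G) ⁻¹ᵁ U ⊓ sm q ⁻¹ᵁ U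
  have hzW : sm dg w ∈ W := by
    refine ⟨?_, ?_⟩
    · show (sm p ≫ sm G) (sm dg w) ∈ U
      rw [← Scheme.Hom.comp_apply, ← Category.assoc, ← sm_comp, hdp]
      show sm G w ∈ U
      rwa [hG]
    · show sm q (sm dg w) ∈ U
      rw [← Scheme.Hom.comp_apply, ← sm_comp, hdq]
      exact hwU
  let r1 := (sm p ≫ sm G).appLE U W inf_le_left
  let r2 := (sm q).appLE U W inf_le_right
  let u : Γ(Q.obj.left, W) := r1.hom a - r2.hom a
  have hjW : sm j η ∈ W := hspec.mem_open W.2 hzW
  have hu0 : ((sm j).app W).hom u = 0 := by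
    show ((sm j).app W).hom (r1.hom a - r2.hom a) = 0
    rw [map_sub, sub_eq_zero]
    have e : sm j ≫ (sm p ≫ sm G) = sm j ≫ sm q := by
      rw [← Category.assoc, ← sm_comp, hjp, ← sm_comp j q, hjq]
      exact Category.id_comp _
    have key : ∀ (g : Q.obj.left ⟶ X.obj.left) (hle : W ≤ g ⁻¹ᵁ U),
        g.appLE U W hle ≫ (sm j).app W =
          (sm j ≫ g).appLE U (sm j ⁻¹ᵁ W) (fun x hx => hle hx) := by
      intro g hle
      rw [Scheme.Hom.app_eq_appLE, Scheme.Hom.appLE_comp_appLE]
    have key' : ∀ {g g' : X.obj.left ⟶ X.obj.left} (_ : g = g') (h : sm j ⁻¹ᵁ W ≤ g ⁻¹ᵁ U)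
        (h' : sm j ⁻¹ᵁ W ≤ g' ⁻¹ᵁ U), g.appLE U _ h = g'.appLE U _ h' := by
      rintro g g' rfl h h'; rfl
    exact congrArg (fun t => t.hom a)
      (((key (sm p ≫ sm G) inf_le_left).trans (key' e _ _)).trans (key (sm q) inf_le_right).symm)
  have huI : (Q.obj.left.presheaf.germ W (sm dg w) hzW).hom u ∈
      RingHom.ker (Cyc.specMap (sm dg w) (sm j η) hspec) := by
    rw [RingHom.mem_ker]
    show (Q.obj.left.presheaf.stalkSpecializes hspec ≫ Q.obj.left.residue _).hom _ = 0
    rw [CommRingCat.hom_comp, RingHom.comp_apply]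
    erw [congrArg (fun t => t.hom u) (Q.obj.left.presheaf.germ_stalkSpecializes hzW hspec)]
    apply ((sm j).residueFieldMap η).hom.injective
    rw [map_zero]
    have e1 : ((sm j).residueFieldMap η).hom ((Q.obj.left.residue (sm j η)).hom
          ((Q.obj.left.presheaf.germ W (sm j η) hjW).hom u)) =
        (X.obj.left.residue η).hom ((X.obj.left.presheaf.germ (sm j ⁻¹ᵁ W) η hjW).hom
          (((sm j).app W).hom u)) := by
      have := congrArg (fun t => t.hom u)
        (show Q.obj.left.presheaf.germ W (sm j η) hjW ≫ Q.obj.left.residue _ ≫ (sm j).residueFieldMap η =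
          (sm j).app W ≫ X.obj.left.presheaf.germ (sm j ⁻¹ᵁ W) η hjW ≫ X.obj.left.residue η by
          rw [Scheme.residue_residueFieldMap, Scheme.Hom.germ_stalkMap_assoc])
      exact this
    refine e1.trans ?_
    rw [hu0, map_zero, map_zero]
  have hdgmem : ((sm dg).stalkMap w).hom ((Q.obj.left.presheaf.germ W (sm dg w) hzW).hom u) ∈ J :=
    Ideal.mem_map_of_mem _ huI
  have hval : ((sm dg).stalkMap w).hom ((Q.obj.left.presheaf.germ W (sm dg w) hzW).hom u) =
      ((sm G).stalkMap w).hom ((X.obj.left.presheaf.germ U (sm G w) (hG.symm ▸ hwU)).hom a) -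
        (X.obj.left.presheaf.germ U w hwU).hom a := by
    show ((sm dg).stalkMap w).hom ((Q.obj.left.presheaf.germ W (sm dg w) hzW).hom (r1.hom a - r2.hom a)) = _
    rw [map_sub, map_sub]
    have key : ∀ (g : Q.obj.left ⟶ X.obj.left) (hle : W ≤ g ⁻¹ᵁ U) (t : X.obj.left ⟶ X.obj.left)
        (_ : sm dg ≫ g = t) (ht : t w ∈ U),
        ((sm dg).stalkMap w).hom ((Q.obj.left.presheaf.germ W (sm dg w) hzW).hom ((g.appLE U W hle).hom a)) =
          (t.stalkMap w).hom ((X.obj.left.presheaf.germ U (t w) ht).hom a) := by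
      intro g hle t e ht
      subst e
      rw [show ((sm dg ≫ g).stalkMap w).hom _ = ((sm dg).stalkMap w).hom ((g.stalkMap (sm dg w)).hom
        ((X.obj.left.presheaf.germ U (g (sm dg w)) ht).hom a)) by rw [Scheme.Hom.stalkMap_comp]; rfl]
      congr 1
      have h2 := congrArg (fun t => t.hom a) (Scheme.Hom.germ_stalkMap g U (sm dg w) ht)
      refine Eq.trans ?_ h2.symm
      show _ = (Q.obj.left.presheaf.germ (g ⁻¹ᵁ U) (sm dg w) ht).hom ((g.app U).hom a)
      rw [Scheme.Hom.appLE, CommRingCat.hom_comp, RingHom.comp_apply]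
      exact congrArg (fun t => t.hom ((g.app U).hom a))
        (Q.obj.left.presheaf.germ_res (homOfLE hle) (sm dg w) hzW)
    rw [key (sm p ≫ sm G) inf_le_left (sm G)
        (by rw [← Category.assoc, ← sm_comp, hdp]; exact Category.id_comp _) (hG.symm ▸ hwU),
      key (sm q) inf_le_right (𝟙 _) (by rw [← sm_comp, hdq]; rfl) hwU]
    congr 1
    rw [Scheme.Hom.stalkMap_id]
    rfl
  have hGa : ((sm G).stalkMap w).hom ((X.obj.left.presheaf.germ U (sm G w) (hG.symm ▸ hwU)).hom a) ∈
      IsLocalRing.maximalIdeal (X.obj.left.presheaf.stalk w) ^ 2 := by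
    refine hzero w hw hG _ ?_
    intro hu
    have h1 : sm G w ∈ X.obj.left.basicOpen a := (X.obj.left.mem_basicOpen a _ _).mpr hu
    rw [hG] at h1
    exact ha_nu a ha ((X.obj.left.mem_basicOpen a w hwU).mp h1)
  have : (X.obj.left.presheaf.germ U w hwU).hom a =
      - (((sm dg).stalkMap w).hom ((Q.obj.left.presheaf.germ W (sm dg w) hzW).hom u)) +
        ((sm G).stalkMap w).hom ((X.obj.left.presheaf.germ U (sm G w) (hG.symm ▸ hwU)).hom a) := by
    rw [hval]; ring
  rw [this]
  exact add_mem (Ideal.mem_sup_left (neg_mem hdgmem)) (Ideal.mem_sup_right hGa)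

include hjp hjq hdp hdq hzero in
theorem isClosed_of_mem {w' : X.obj.left}
    (hw' : sm dg w' ∈ closure ({sm j (genericPoint ↥X.obj.left)} : Set Q.obj.left)) :
    IsClosed ({w'} : Set X.obj.left) := by
  haveI : CompactSpace ↥X.obj.left := (quasiCompact_iff_compactSpace X.obj.hom).mp inferInstance
  obtain ⟨w, hw, hwc⟩ := IsClosed.exists_closed_singleton (S := closure ({w'} : Set X.obj.left))
    isClosed_closure ⟨w', subset_closure rfl⟩
  have hsp : w' ⤳ w := specializes_iff_mem_closure.mpr hw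
  have hmem : sm dg w ∈ closure ({sm j (genericPoint ↥X.obj.left)} : Set Q.obj.left) :=
    (hsp.map (sm dg).continuous).mem_closed isClosed_closure hw'
  have hJ := ideal_fixed hjp hjq hdp hdq hzero hwc hmem
  suffices h : w' = w by rwa [h]
  refine (hsp.antisymm (specializes_of_comap_maximalIdeal hsp ?_)).eq
  conv_lhs => rw [← hJ]
  rw [Ideal.map_le_iff_le_comap, Ideal.comap_comap]
  intro u hu
  rw [Ideal.mem_comap, RingHom.comp_apply]
  have e1 : (X.obj.left.presheaf.stalkSpecializes hsp).hom (((sm dg).stalkMap w).hom u) =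
      ((sm dg).stalkMap w').hom ((Q.obj.left.presheaf.stalkSpecializes (hsp.map (sm dg).continuous)).hom u) := by
    have := congrArg (fun t => t.hom u) (Scheme.Hom.stalkSpecializes_stalkMap (sm dg) w' w hsp)
    exact this.symm
  rw [e1]
  refine IsLocalRing.map_maximalIdeal_le ((sm dg).stalkMap w').hom (Ideal.mem_map_of_mem _ ?_)
  intro hunit
  have h2 : IsUnit ((Cyc.specMap (sm dg w') (sm j (genericPoint ↥X.obj.left)) (specializes_iff_mem_closure.mpr hw'))
      ((Q.obj.left.presheaf.stalkSpecializes (hsp.map (sm dg).continuous)).hom u)) := hunit.map _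
  rw [RingHom.mem_ker] at hu
  have h3 : (Cyc.specMap (sm dg w') (sm j (genericPoint ↥X.obj.left)) (specializes_iff_mem_closure.mpr hw'))
      ((Q.obj.left.presheaf.stalkSpecializes (hsp.map (sm dg).continuous)).hom u) = 0 := by
    refine Eq.trans ?_ hu
    show (Q.obj.left.residue _).hom ((Q.obj.left.presheaf.stalkSpecializes _).hom _) =
      (Q.obj.left.residue _).hom ((Q.obj.left.presheaf.stalkSpecializes _).hom _)
    congr 1
    rw [← RingHom.comp_apply, ← CommRingCat.hom_comp, TopCat.Presheaf.stalkSpecializes_comp]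
  rw [h3] at h2
  exact not_isUnit_zero h2

end

theorem finite_of_isClosed_of_forall_isClosed {X : Type u} [TopologicalSpace X] [NoetherianSpace X]
    [QuasiSober X] {S : Set X} (hS : IsClosed S) (h : ∀ x ∈ S, IsClosed ({x} : Set X)) : S.Finite := by
  obtain ⟨C, hC, hC1, hC2, rfl⟩ := NoetherianSpace.exists_finite_set_isClosed_irreducible hS
  refine hC.sUnion fun t ht => ?_
  have hg := (hC2 t ht).isGenericPoint_genericPoint (hC1 t ht)
  have := h _ ⟨t, ht, hg.mem⟩
  rw [← hg.def, this.closure_eq]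
  exact Set.finite_singleton _

variable {K : Type v} [Field K] [CharZero K] (T : Theory.{u, v} k K)

/-- The trace formula when all fixed points are simple with vanishing cotangent map. -/
theorem lefschetz_fixed (X Q : Var k) (G : X ⟶ X) (p q : Q ⟶ X) (hQ : IsProd p q)
    (hzero : ∀ w : X.obj.left, IsClosed ({w} : Set X.obj.left) → sm G w = w →
      ∀ a ∈ IsLocalRing.maximalIdeal (X.obj.left.presheaf.stalk (sm G w)),
        ((sm G).stalkMap w).hom a ∈ IsLocalRing.maximalIdeal (X.obj.left.presheaf.stalk w) ^ 2) :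
    {w : X.obj.left | IsClosed ({w} : Set X.obj.left) ∧ sm G w = w}.Finite ∧
      ∑ i ∈ Finset.range (2 * WeilCoh.dim X.obj.left + 1),
        (-1 : K) ^ i * LinearMap.trace K ↥(T.gr X (i : ℤ)) (T.pullDeg G (i : ℤ)) =
      (Nat.card {w : X.obj.left // IsClosed ({w} : Set X.obj.left) ∧ sm G w = w} : K) := by
  classical
  have hjex : ∀ φ : X ⟶ X, ∃ j : X ⟶ Q, j ≫ p = 𝟙 X ∧ j ≫ q = φ := by
    intro φ
    let l := hQ.lift (𝟙 X.obj.left) (sm φ) (by rw [Category.id_comp, sm_hom])
    have hl : l ≫ Q.obj.hom = X.obj.hom := by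
      rw [← sm_hom p, ← Category.assoc, hQ.lift_fst, Category.id_comp]
    refine ⟨homOfSm l hl, hom_ext_sm ?_, hom_ext_sm ?_⟩
    · rw [sm_comp]; exact hQ.lift_fst _ _ _
    · rw [sm_comp]; exact hQ.lift_snd _ _ _
  obtain ⟨j, hjp, hjq⟩ := hjex G
  obtain ⟨dg, hdp, hdq⟩ := hjex (𝟙 X)
  haveI : IsLocallyNoetherian X.obj.left := LocallyOfFiniteType.isLocallyNoetherian X.obj.hom
  haveI : CompactSpace ↥X.obj.left := (quasiCompact_iff_compactSpace X.obj.hom).mp inferInstance
  haveI : AlgebraicGeometry.IsNoetherian X.obj.left := {}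
  haveI : NoetherianSpace ↥X.obj.left := inferInstance
  set ξ := sm j (genericPoint ↥X.obj.left)
  set S : Set X.obj.left := sm dg ⁻¹' closure ({ξ} : Set Q.obj.left)
  have hSeq : S = {w : X.obj.left | IsClosed ({w} : Set X.obj.left) ∧ sm G w = w} := by
    ext w
    exact ⟨fun h => ⟨isClosed_of_mem hjp hjq hdp hdq hzero h, fixed_of_mem hjp hjq hdp hdq h⟩,
      fun h => mem_of_fixed hQ hjp hjq hdp hdq h.1 h.2⟩
  have hfin : S.Finite := finite_of_isClosed_of_forall_isClosed
    (isClosed_closure.preimage (sm dg).continuous)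
    fun w hw => isClosed_of_mem hjp hjq hdp hdq hzero hw
  refine ⟨hSeq ▸ hfin, ?_⟩
  have hmult : ∀ (w : X.obj.left) (hw : sm dg w ∈ closure ({ξ} : Set Q.obj.left)),
      preimMult (sm dg) ξ w hw = 1 := by
    intro w hw
    unfold preimMult
    rw [ideal_fixed hjp hjq hdp hdq hzero (isClosed_of_mem hjp hjq hdp hdq hzero hw) hw]
    haveI : IsSimpleModule (X.obj.left.presheaf.stalk w)
        (X.obj.left.presheaf.stalk w ⧸ IsLocalRing.maximalIdeal (X.obj.left.presheaf.stalk w)) :=
      isSimpleModule_iff_isCoatom.mpr (IsLocalRing.maximalIdeal.isMaximal _).out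
    rw [Module.length_eq_one]
    rfl
  have hcomp : ∀ w : X.obj.left, w ∈ S → IsCompPt S w := fun w hw =>
    ⟨hw, fun w' hw' hs => by
      have := isClosed_of_mem hjp hjq hdp hdq hzero hw'
      exact (hs.mem_closed this rfl).symm⟩
  have hpull := T.cl_pull dg ξ (fun w hw => by
      rw [pdim_eq_zero_of_isClosed (isClosed_of_mem hjp hjq hdp hdq hzero hw.1), pdim_section hjp,
        pdim_genericPoint, dim_prod_eq T p q hQ]
      push_cast; ring)
    (Or.inr fun w hw => hmult w hw.1)
  haveI : Finite {w : X.obj.left // IsCompPt S w} :=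
    (hfin.subset fun w hw => hw.1).to_subtype
  cases nonempty_fintype {w : X.obj.left // IsCompPt S w}
  rw [← lefschetz T X Q G p q hQ j dg hjp hjq hdp hdq,
    tr_comm T Q (T.cl_mem Q _) (T.cl_mem Q _), tr_cl_section T hdp _ (T.cl_mem Q _), cl_genericPoint, one_mul,
    show sgn K (2 * (codim Q.obj.left ξ : ℤ))
      (2 * (codim Q.obj.left (sm dg (genericPoint ↥X.obj.left)) : ℤ)) = 1 by
      rw [sgn_eq, if_pos (Or.inl (even_two_mul _))], one_mul]
  erw [hpull]
  rw [finsum_eq_sum_of_fintype, map_sum]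
  rw [Finset.sum_congr rfl (g := fun _ => (1 : K)) fun w _ => by
    rw [map_smul, smul_eq_mul, hmult _ w.2.1, Nat.cast_one, one_mul,
      tr_cl_eq_one T X (isClosed_of_mem hjp hjq hdp hdq hzero w.2.1)]]
  rw [Finset.sum_const, nsmul_one, Finset.card_univ, ← Nat.card_eq_fintype_card]
  congr 1
  refine Nat.card_congr (Equiv.subtypeEquivRight fun w => ?_)
  have := Set.ext_iff.mp hSeq w
  exact ⟨fun h => this.mp h.1, fun h => hcomp w (this.mpr h)⟩

end Groth.Agent.H27Weil
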